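import Cfsg.Agent.Lib.TransvGroup.System
import Cfsg.Agent.Lib.Transvect.Basic

/-!
Generation of the special linear and the symplectic group of a finite-dimensional space by transvections.
* `sl_mem` : a map of determinant one lies in a subgroup containing every transvection
* `sp_mem` : an isometry lies in a subgroup containing every symplectic transvection
-/

set_option autoImplicit false
set_option linter.unusedSectionVars false

namespace Cfsg.Agent.TransvGroup

open Module

universe u v

variable {k : Type u} [Field k] {V : Type v} [AddCommGroup V] [Module k V] [FiniteDimensional k V]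

theorem sl_mem (M : Subgroup (V ≃ₗ[k] V)) (hM : ∀ a φ, φ a = 0 → ∃ g ∈ M, IsTv g a φ) {g : V ≃ₗ[k] V}
    (hg : LinearMap.det (g : V →ₗ[k] V) = 1) : g ∈ M := by
  classical
  set e : V ≃ₗ[k] (Fin (finrank k V) → k) := (finBasis k V).equivFun
  let Θ : GL (Fin (finrank k V)) k →* (V ≃ₗ[k] V) :=
    { toFun := fun A => e.trans ((Transvect.app A).trans e.symm)
      map_one' := by ext x; simp
      map_mul' := fun A B => by ext x; simp [Matrix.mulVec_mulVec] }
  have hsl : Cfsg.Geo.specialLinear (Fin (finrank k V)) k ≤ M.comap Θ := by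
    refine Transvect.sl_le_of_tv _ fun v φ hv => ?_
    obtain ⟨t, ht, htv⟩ := hM (e.symm v) (φ ∘ₗ (e : V →ₗ[k] _)) (by simp [hv])
    refine Subgroup.mem_comap.2 (?_ : Θ (Transvect.tv v φ) ∈ M)
    rwa [show Θ (Transvect.tv v φ) = t from LinearEquiv.ext fun x => by
      rw [htv]
      show e.symm (Transvect.app (Transvect.tv v φ) (e x)) = _
      rw [Transvect.tv_apply hv]
      simp]
  set L : (Fin (finrank k V) → k) →ₗ[k] (Fin (finrank k V) → k) :=
    (e : V →ₗ[k] _) ∘ₗ ((g : V →ₗ[k] V) ∘ₗ (e.symm : _ →ₗ[k] V))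
  have hdet : (LinearMap.toMatrix' L).det = 1 := by
    rw [LinearMap.det_toMatrix', show L = (e : V →ₗ[k] _) ∘ₗ (g : V →ₗ[k] V) ∘ₗ (e.symm : _ →ₗ[k] V) from rfl,
      LinearMap.det_conj, hg]
  let A : GL (Fin (finrank k V)) k :=
    Matrix.GeneralLinearGroup.mkOfDetNeZero (LinearMap.toMatrix' L) (by rw [hdet]; exact one_ne_zero)
  have hA : A ∈ Cfsg.Geo.specialLinear (Fin (finrank k V)) k := Transvect.mem_sl_iff.2 hdet
  have : Θ A = g := LinearEquiv.ext fun x => by
    show e.symm (Transvect.app A (e x)) = g x
    rw [Transvect.app_apply]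
    show e.symm ((LinearMap.toMatrix' L).mulVec (e x)) = g x
    rw [LinearMap.toMatrix'_mulVec]
    simp [L]
  exact this ▸ hsl hA

theorem sp_mem (Ω : LinearMap.BilinForm k V) (halt : Ω.IsAlt) (hnd : Ω.Nondegenerate) (M : Subgroup (V ≃ₗ[k] V))
    (hM : ∀ a, ∀ c : k, ∃ g ∈ M, IsTv g a (c • Ω a)) {g : V ≃ₗ[k] V} (hg : ∀ x y, Ω (g x) (g y) = Ω x y) :
    g ∈ M := by
  classical
  let K : (V ≃ₗ[k] V) → Submodule k V := fun g => LinearMap.ker ((g : V →ₗ[k] V) - LinearMap.id)
  have memK : ∀ g x, x ∈ K g ↔ g x = x := fun g x => by simp [K, sub_eq_zero]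
  have self : ∀ x, Ω x x = 0 := halt
  have skew : ∀ x y, Ω x y = -Ω y x := fun x y => (halt.neg_eq y x).symm
  suffices ∀ (n : ℕ) (g : V ≃ₗ[k] V), (∀ x y, Ω (g x) (g y) = Ω x y) → finrank k V - finrank k (K g) ≤ n → g ∈ M from
    this _ g hg le_rfl
  intro n
  induction n with
  | zero =>
    intro g _ h0
    have htop : K g = ⊤ := Submodule.eq_top_of_finrank_eq (le_antisymm (Submodule.finrank_le _) (by omega))
    rw [show g = 1 from LinearEquiv.ext fun x => (memK g x).1 (htop ▸ Submodule.mem_top)]
    exact one_mem _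
  | succ n ih =>
    -- multiplying by the transvection with centre `g u - u` fixes `u` and keeps the fixed space
    have fixed : ∀ g : V ≃ₗ[k] V, (∀ x y, Ω (g x) (g y) = Ω x y) → ∀ x, g x = x → ∀ w, Ω (g w - w) x = 0 := fun g hg x hx w => by
      have := hg w x
      rw [hx] at this
      simp [this]
    have tvIso : ∀ (t : V ≃ₗ[k] V) (z : V) (c : k), IsTv t z (c • Ω z) → ∀ x y, Ω (t x) (t y) = Ω x y := fun t z c h x y => by
      simp [h x, h y, self]
      rw [skew x z]
      ring
    have case1 : ∀ g : V ≃ₗ[k] V, (∀ x y, Ω (g x) (g y) = Ω x y) → finrank k V - finrank k (K g) ≤ n + 1 →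
        ∀ u, Ω u (g u) ≠ 0 → g ∈ M := by
      intro g hg hk u hu
      obtain ⟨t, ht, htv⟩ := hM (g u - u) (Ω u (g u))⁻¹
      have hiso := tvIso t _ _ htv
      have htu : (t * g) u = u := by
        rw [LinearEquiv.mul_apply, htv]
        have : (Ω u (g u))⁻¹ * Ω (g u - u) (g u) = -1 := by
          simp [self, hu]
        simp [smul_eq_mul] at this ⊢
        rw [this]
        simp
      have hle : K g < K (t * g) := by
        refine lt_of_le_of_ne (fun x hx => ?_) fun e => hu ?_
        · rw [memK] at hx ⊢
          rw [LinearEquiv.mul_apply, hx, htv, LinearMap.smul_apply, fixed g hg x hx u]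
          simp
        · rw [(memK g u).1 (e ▸ (memK _ u).2 htu), self]
      have h1 := Submodule.finrank_lt_finrank_of_lt hle
      have h2 : t * g ∈ M := ih _ (fun x y => by simp [hiso, hg]) (by omega)
      simpa using mul_mem (inv_mem ht) h2
    intro g hg hk
    by_cases hall : ∀ u, Ω u (g u) = 0
    · by_cases h1 : ∀ u, g u = u
      · rw [show g = 1 from LinearEquiv.ext h1]; exact one_mem _
      push Not at h1
      obtain ⟨u, hu⟩ := h1
      obtain ⟨w, hw⟩ : ∃ w, Ω (g u - u) w ≠ 0 := by
        by_contra! hc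
        exact hu (sub_eq_zero.1 (hnd.1 _ hc))
      have hpol : ∀ x y, Ω x (g y) + Ω y (g x) = 0 := fun x y => by
        have := hall (x + y)
        simp [hall] at this
        linear_combination this
      obtain ⟨t, ht, htv⟩ := hM (g w - w) 1
      have hiso := tvIso t _ _ htv
      have hle : K g ≤ K (t * g) := fun x hx => by
        rw [memK] at hx ⊢
        rw [LinearEquiv.mul_apply, hx, htv, LinearMap.smul_apply, fixed g hg x hx w]
        simp
      have hz : Ω (g w - w) u ≠ 0 := fun h0 => hw (by
        have := hpol u w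
        simp at h0 ⊢
        linear_combination -h0 + skew (g w) u + skew (g u) w - skew u w - this)
      have h5 : Ω u ((t * g) u) ≠ 0 := by
        rw [LinearEquiv.mul_apply, htv]
        have e1 : Ω (g w - w) (g u) = -Ω (g w - w) u := by
          have := hpol u w
          simp [hg w u]
          linear_combination this - skew (g w) u
        simp [hall]
        have e2 : Ω u (g w - w) = -Ω (g w - w) u := skew _ _
        simp at e1 e2 hz ⊢
        rw [e1, e2]
        exact ⟨fun h => hz (by linear_combination -h), fun h => hz (by linear_combination -h)⟩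
      have hfin := Submodule.finrank_mono hle
      have h4 : t * g ∈ M := case1 _ (fun x y => by simp [hiso, hg]) (by omega) u h5
      simpa using mul_mem (inv_mem ht) h4
    · push Not at hall
      obtain ⟨u, hu⟩ := hall
      exact case1 g hg hk u hu

end Cfsg.Agent.TransvGroup
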