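import Mathlib
import Cfsg.Agent.EqLemmas

/-!
Transvection systems (groups generated by transvections without unipotent normal subgroup).
* `Sys` : the closure properties of the pairs (centre, axis) of the transvections of such a group
* `Sys.dual`, `one`, `adj_dim`, `Adj.both`, `two`, `short`
* `comp` : the component subspace of a centre; `comp_sep`, `comp_finrank`
-/

set_option autoImplicit false
set_option linter.unusedSectionVars false

namespace Cfsg.Agent.TransvGroup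

open Module

universe u v w

variable {k : Type u} [Field k] {V : Type v} [AddCommGroup V] [Module k V] [FiniteDimensional k V]
  {V' : Type w} [AddCommGroup V'] [Module k V'] [FiniteDimensional k V']

/-- The properties of the pairs `(a, φ)` with `x ↦ x + φ x • a` in a reduced transvection group. -/
structure Sys (B : V' →ₗ[k] V →ₗ[k] k) (T : V → V' → Prop) : Prop where
  two : (2 : k) ≠ 0
  ne : ∀ {a φ}, T a φ → a ≠ 0 ∧ φ ≠ 0 ∧ B φ a = 0
  smulL : ∀ {a φ}, T a φ → ∀ {c : k}, c ≠ 0 → T (c • a) φ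
  smulR : ∀ {a φ}, T a φ → ∀ {c : k}, c ≠ 0 → T a (c • φ)
  addR : ∀ {a φ ψ}, T a φ → T a ψ → φ + ψ ≠ 0 → T a (φ + ψ)
  addL : ∀ {a b φ}, T a φ → T b φ → a + b ≠ 0 → T (a + b) φ
  conj : ∀ {a b φ ψ}, T a φ → T b ψ → ∀ s : k, T (a + (s * B ψ a) • b) (φ - (s * B φ b) • ψ)
  quad : ∀ {a b φ ψ}, T a φ → T b ψ → B φ b = 0 → B ψ a = 0 → T (a + b) (φ + ψ) → a - b ≠ 0 → φ - ψ ≠ 0 →
    T (a - b) (φ - ψ)
  noAbelian : ∀ S : V → V' → Prop, (∀ a φ, S a φ → T a φ) →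
    (∀ a φ, S a φ → ∀ b ψ, T b ψ → ∀ s : k, S (a + (s * B ψ a) • b) (φ - (s * B φ b) • ψ)) →
    (∀ a φ b ψ, S a φ → S b ψ → B φ b = 0) → ∀ a φ, ¬ S a φ
  opp : ∀ {a φ}, T a φ → ∃ b ψ, T b ψ ∧ B φ b ≠ 0 ∧ B ψ a ≠ 0

variable {B : V' →ₗ[k] V →ₗ[k] k} {T : V → V' → Prop}

theorem Sys.dual (h : Sys B T) : Sys B.flip (fun φ a => T a φ) where
  two := h.two
  ne ht := ⟨(h.ne ht).2.1, (h.ne ht).1, (h.ne ht).2.2⟩
  smulL ht _ hc := h.smulR ht hc
  smulR ht _ hc := h.smulL ht hc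
  addR hs ht hne := h.addL hs ht hne
  addL hs ht hne := h.addR hs ht hne
  conj hs ht s := by simpa [sub_eq_add_neg, neg_mul, neg_smul] using h.conj hs ht (-s)
  quad hs ht h1 h2 h3 h4 h5 := h.quad hs ht h2 h1 h3 h5 h4
  noAbelian S hS hcl hz a φ := h.noAbelian (fun x ξ => S ξ x) (fun x ξ hx => hS ξ x hx)
    (fun x ξ hx y η hy s => by simpa [sub_eq_add_neg, neg_mul, neg_smul] using hcl ξ x hx η y hy (-s))
    (fun x ξ y η hx hy => hz η y ξ x hy hx) φ a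
  opp ht := by
    obtain ⟨b, ψ, hb, h1, h2⟩ := h.opp ht
    exact ⟨ψ, b, hb, h2, h1⟩

variable (h : Sys B T)

/-- The axes of the transvections with centre `a`, with zero adjoined. -/
def axes (a : V) : Submodule k V' where
  carrier := {φ | φ = 0 ∨ T a φ}
  zero_mem' := Or.inl rfl
  add_mem' := by
    rintro φ ψ (rfl | hφ) hψ
    · simpa using hψ
    rcases hψ with rfl | hψ
    · exact Or.inr (by simpa using hφ)
    · exact (em (φ + ψ = 0)).imp id fun hne => h.addR hφ hψ hne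
  smul_mem' := by
    rintro c φ (rfl | hφ)
    · exact Or.inl (smul_zero c)
    · exact (em (c = 0)).imp (fun e => by simp [e]) fun hc => h.smulR hφ hc

include h

theorem mem_axes {a : V} {φ : V'} (hφ : φ ∈ axes h a) (h0 : φ ≠ 0) : T a φ := hφ.resolve_left h0

theorem axes_self {a : V} {φ : V'} (hφ : φ ∈ axes h a) : B φ a = 0 := by
  rcases hφ with rfl | hφ
  · simp
  · exact (h.ne hφ).2.2

theorem one {a b : V} {φ ψ : V'} (ha : T a φ) (hb : T b ψ) (h1 : B φ b = 0) (h2 : B ψ a ≠ 0) : T b φ := by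
  have hc := h.conj ha hb 1
  rw [h1, mul_zero, zero_smul, sub_zero, one_mul] at hc
  have hb0 : B ψ a • b ≠ 0 := smul_ne_zero h2 (h.ne hb).1
  have hs := h.addL hc (h.smulL ha (neg_ne_zero.2 one_ne_zero) : T ((-1 : k) • a) φ)
  rw [neg_one_smul, show a + B ψ a • b + -a = B ψ a • b by abel] at hs
  have := h.smulL (hs hb0) (inv_ne_zero h2)
  rwa [inv_smul_smul₀ h2] at this

/-- The dimension of the space of axes. -/
noncomputable def dim (a : V) : ℕ := finrank k (axes h a)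

theorem dim_smul_le {a : V} {c : k} (hc : c ≠ 0) : dim h a ≤ dim h (c • a) := by
  refine Submodule.finrank_mono fun φ hφ => ?_
  exact hφ.imp id fun ht => h.smulL ht hc

theorem dim_step_le {a b : V} {ψ : V'} (hb : T b ψ) (s : k) : dim h a ≤ dim h (a + (s * B ψ a) • b) := by
  let L : V' →ₗ[k] V' := LinearMap.id - s • (B.flip b).smulRight ψ
  have hL : ∀ χ, L χ = χ - (s * B χ b) • ψ := fun χ => by simp [L, smul_smul]
  have hbb : B ψ b = 0 := (h.ne hb).2.2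
  have hmap : ∀ χ ∈ axes h a, L χ ∈ axes h (a + (s * B ψ a) • b) := by
    rintro χ (rfl | hχ)
    · exact Or.inl (map_zero L)
    · rw [hL]; exact Or.inr (h.conj hχ hb s)
  refine LinearMap.finrank_le_finrank_of_injective (f := L.restrict hmap) fun x y hxy => Subtype.ext ?_
  have he : L (x : V') = L (y : V') := congrArg Subtype.val hxy
  rw [hL, hL] at he
  have hev := congrArg (fun z => B z b) he
  simp only [map_sub, map_smul, LinearMap.sub_apply, LinearMap.smul_apply, hbb, smul_zero, sub_zero] at hev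
  rwa [hev, sub_left_inj] at he

theorem dim_step {a b : V} {ψ : V'} (hb : T b ψ) (s : k) : dim h (a + (s * B ψ a) • b) = dim h a := by
  refine le_antisymm ?_ (dim_step_le h hb s)
  have := dim_step_le h (a := a + (s * B ψ a) • b) hb (-s)
  simpa [map_add, map_smul, (h.ne hb).2.2, add_assoc, ← add_smul] using this

theorem dim_le_of_mutual {a b : V} {φ ψ : V'} (ha : T a φ) (hb : T b ψ) (h1 : B φ b ≠ 0) (h2 : B ψ a ≠ 0) :
    dim h a ≤ dim h b := by
  set c := B ψ a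
  have e1 := dim_step h (a := a) hb 1
  have e2 := dim_step h (a := a + (1 * B ψ a) • b) ha (-(c * B φ b)⁻¹)
  have e3 : a + (1 * B ψ a) • b + (-(c * B φ b)⁻¹ * B φ (a + (1 * B ψ a) • b)) • a = c • b := by
    rw [map_add, map_smul, (h.ne ha).2.2, zero_add, one_mul, smul_eq_mul, neg_mul,
      inv_mul_cancel₀ (mul_ne_zero h2 h1), neg_one_smul]
    abel
  rw [e3, e1] at e2
  have := dim_smul_le h (a := c • b) (inv_ne_zero h2)
  rwa [inv_smul_smul₀ h2, e2] at this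

theorem low_high {a c : V} {φ χ : V'} (ha : T a φ) (hc : T c χ) (hlt : dim h a < dim h c) : B φ c = 0 := by
  by_contra hne
  by_cases hm : ∃ η ∈ axes h c, B η a ≠ 0
  · obtain ⟨η, hη, hηa⟩ := hm
    have hη' := mem_axes h hη fun e => hηa (by simp [e])
    exact absurd (dim_le_of_mutual h hη' ha hηa hne) (not_le.2 hlt)
  push Not at hm
  refine absurd (Submodule.finrank_mono fun η hη => ?_ : dim h c ≤ dim h a) (not_le.2 hlt)
  rcases eq_or_ne η 0 with rfl | h0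
  · exact zero_mem _
  · exact Or.inr (one h (mem_axes h hη h0) ha (hm η hη) hne)

/-- `a` is a centre. -/
def Pt (T : V → V' → Prop) (a : V) : Prop := ∃ φ, T a φ

/-- Two transvections do not commute. -/
def Adj (B : V' →ₗ[k] V →ₗ[k] k) (T : V → V' → Prop) (a b : V) : Prop :=
  ∃ φ ψ, T a φ ∧ T b ψ ∧ (B φ b ≠ 0 ∨ B ψ a ≠ 0)

omit h in
theorem Adj.symm {a b : V} (hab : Adj B T a b) : Adj B T b a :=
  let ⟨φ, ψ, hφ, hψ, h⟩ := hab
  ⟨ψ, φ, hψ, hφ, h.symm⟩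

theorem adj_dim {a b : V} (hab : Adj B T a b) : dim h a = dim h b := by
  suffices key : ∀ {a c : V}, Adj B T a c → ¬ dim h a < dim h c from
    le_antisymm (not_lt.1 (key hab.symm)) (not_lt.1 (key hab))
  rintro a c ⟨φ, χ, ha, hc, hne⟩ hlt
  have h0 : B φ c = 0 := low_high h ha hc hlt
  have hχa : B χ a ≠ 0 := hne.resolve_left fun e => e h0
  refine h.noAbelian (fun x ξ => T x ξ ∧ dim h c ≤ dim h x ∧ ∃ y, T y ξ ∧ dim h y < dim h c)
    (fun x ξ hx => hx.1) ?_ ?_ c φ ⟨one h ha hc h0 hχa, le_rfl, a, ha, hlt⟩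
  · rintro x ξ ⟨hx, hdx, y, hy, hdy⟩ b ψ hb s
    exact ⟨h.conj hx hb s, (dim_step h hb s).symm ▸ hdx, _, h.conj hy hb s, (dim_step h hb s).symm ▸ hdy⟩
  · rintro x ξ z ζ ⟨-, -, y, hy, hdy⟩ ⟨hz, hdz, -⟩
    exact low_high h hy hz (hdy.trans_le hdz)

theorem Adj.both {a b : V} (hab : Adj B T a b) : ∃ φ, T a φ ∧ B φ b ≠ 0 := by
  by_contra! hc
  obtain ⟨φ, χ, ha, hb, hne⟩ := id hab
  have hχa : B χ a ≠ 0 := hne.resolve_left fun e => e (hc φ ha)
  have hle : axes h a ≤ axes h b := fun η hη => by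
    rcases hη with rfl | hη
    · exact zero_mem _
    · exact Or.inr (one h hη hb (hc η hη) hχa)
  have he := Submodule.eq_of_le_of_finrank_eq hle (adj_dim h hab)
  exact hχa (axes_self h (he.ge (Or.inr hb) : χ ∈ axes h a))

theorem Adj.of_ne {a b : V} {φ : V'} (ha : T a φ) (hb : Pt T b) (hne : B φ b ≠ 0) : Adj B T a b :=
  let ⟨ψ, hψ⟩ := hb
  ⟨φ, ψ, ha, hψ, Or.inl hne⟩

theorem line {a b : V} (hab : Adj B T a b) (t : k) : Pt T (a + t • b) := by
  obtain ⟨ψ, hψ, hψa⟩ := Adj.both h hab.symm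
  obtain ⟨φ, -, hφ, -, -⟩ := hab
  exact ⟨_, by simpa [hψa] using h.conj hφ hψ (t * (B ψ a)⁻¹)⟩

theorem two_step {a b c : V} (hac : Adj B T a c) (hbc : Adj B T b c) (hne : a + b ≠ 0) : Pt T (a + b) := by
  by_cases hab : Adj B T a b
  · simpa using line h hab 1
  obtain ⟨φ₀, hφ₀, hφc⟩ := Adj.both h hac
  obtain ⟨ψ₀, hψ₀, hψc⟩ := Adj.both h hbc
  obtain ⟨φ, hφ, e1⟩ : ∃ φ, T a φ ∧ B φ c = 1 :=
    ⟨_, h.smulR hφ₀ (inv_ne_zero hφc), by simp [inv_mul_cancel₀ hφc]⟩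
  obtain ⟨ψ, hψ, e2⟩ : ∃ ψ, T b ψ ∧ B ψ c = 1 :=
    ⟨_, h.smulR hψ₀ (inv_ne_zero hψc), by simp [inv_mul_cancel₀ hψc]⟩
  have h1 : B φ b = 0 := by_contra fun e => hab ⟨φ, ψ, hφ, hψ, Or.inl e⟩
  have h2 : B ψ a = 0 := by_contra fun e => hab ⟨φ, ψ, hφ, hψ, Or.inr e⟩
  obtain ⟨χ₁, hχ₁, hχ₁a⟩ := Adj.both h hac.symm
  obtain ⟨χ₂, hχ₂, hχ₂b⟩ := Adj.both h hbc.symm
  obtain ⟨χ, hχ, hα, hβ⟩ : ∃ χ, T c χ ∧ B χ a ≠ 0 ∧ B χ b ≠ 0 := by
    by_cases g1 : B χ₁ b = 0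
    · by_cases g2 : B χ₂ a = 0
      · refine ⟨χ₁ + χ₂, h.addR hχ₁ hχ₂ fun e => hχ₁a ?_, ?_, ?_⟩
        · simpa [g2] using congrArg (fun z => B z a) e
        · simpa [g2] using hχ₁a
        · simpa [g1] using hχ₂b
      · exact ⟨χ₂, hχ₂, g2, hχ₂b⟩
    · exact ⟨χ₁, hχ₁, hχ₁a, g1⟩
  set α := B χ a
  set β := B χ b
  have key : ∀ σ τ : k, σ * α + τ * β ≠ 0 → T (σ • a + τ • b) ((σ * α) • φ + (τ * β) • ψ) := by
    intro σ τ hm
    have c1 := h.conj hχ hφ σ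
    rw [e1, mul_one] at c1
    have c2 := h.conj c1 hψ τ
    rw [map_add, map_smul, h2, smul_zero, add_zero, e2, mul_one, map_sub, map_smul, LinearMap.sub_apply,
      LinearMap.smul_apply, h1, smul_zero, sub_zero] at c2
    have c3 := h.conj c2 hχ (-(σ * α + τ * β)⁻¹)
    have hχc : B χ c = 0 := (h.ne hχ).2.2
    simp only [map_add, map_sub, map_smul, LinearMap.sub_apply, LinearMap.smul_apply, hχc, e1, e2,
      smul_eq_mul, mul_one, zero_add, zero_sub] at c3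
    have c4 := h.smulR c3 (neg_ne_zero.2 one_ne_zero)
    rw [neg_mul, inv_mul_cancel₀ hm] at c4
    convert c4 using 1
    · module
    · rw [show -(σ * α + τ * β)⁻¹ * (-(σ * B χ a) - τ * B χ b) = 1 by
        rw [show -(σ * B χ a) - τ * B χ b = -(σ * α + τ * β) by ring, neg_mul_neg, inv_mul_cancel₀ hm]]
      module
  by_cases hs : α + β = 0
  · have hm : (1 : k) * α + (-1) * β ≠ 0 := by
      rw [show (1 : k) * α + (-1) * β = 2 * α by linear_combination -hs]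
      exact mul_ne_zero h.two hα
    have c5 : T (a + -b) (φ + ψ) := by
      have := h.smulR (key 1 (-1) hm) (inv_ne_zero hα)
      rw [smul_add, smul_smul, smul_smul, one_smul, neg_one_smul, neg_one_mul, one_mul, inv_mul_cancel₀ hα,
        one_smul, show -β = α by linear_combination -hs, inv_mul_cancel₀ hα, one_smul] at this
      exact this
    have hb' : T (-b) ψ := by simpa using h.smulL hψ (neg_ne_zero.2 one_ne_zero)
    rcases eq_or_ne φ ψ with he | he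
    · exact ⟨φ, h.addL hφ (he ▸ hψ) hne⟩
    · exact ⟨φ - ψ, by
        simpa using h.quad hφ hb' (by simp [h1]) h2 c5 (by simpa using hne) (sub_ne_zero.2 he)⟩
  · exact ⟨_, by simpa using key 1 1 (by simpa using hs)⟩

theorem adj_smul {a b : V} {t : k} (ht : t ≠ 0) (hab : Adj B T a b) : Adj B T (t • a) b := by
  obtain ⟨φ, ψ, ha, hb, hne⟩ := hab
  refine ⟨φ, ψ, h.smulL ha ht, hb, ?_⟩
  simpa [ht] using hne

theorem short {a c e b : V} (h1 : Adj B T a c) (h2 : Adj B T c e) (h3 : Adj B T e b) :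
    ∃ x, Adj B T a x ∧ Adj B T x b := by
  by_cases hae : Adj B T a e
  · exact ⟨e, hae, h3⟩
  by_cases hcb : Adj B T c b
  · exact ⟨c, h1, hcb⟩
  have hx : Pt T (c + e) := by simpa using line h h2 1
  obtain ⟨φ, hφ, hφc⟩ := Adj.both h h1
  obtain ⟨ψ, hψ, hψe⟩ := Adj.both h h3.symm
  have g1 : B φ e = 0 := by_contra fun g => hae ⟨φ, _, hφ, h3.choose_spec.choose_spec.1, Or.inl g⟩
  have g2 : B ψ c = 0 := by_contra fun g => hcb ⟨_, ψ, h2.choose_spec.choose_spec.1, hψ, Or.inr g⟩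
  exact ⟨c + e, Adj.of_ne h hφ hx (by simpa [g1] using hφc), (Adj.of_ne h hψ hx (by simpa [g2] using hψe)).symm⟩

/-- Two centres lie in the same component. -/
def Rel (B : V' →ₗ[k] V →ₗ[k] k) (T : V → V' → Prop) (a b : V) : Prop := ∃ c, Adj B T a c ∧ Adj B T c b

omit h in
theorem Rel.symm {a b : V} (hab : Rel B T a b) : Rel B T b a :=
  let ⟨c, h1, h2⟩ := hab
  ⟨c, h2.symm, h1.symm⟩

theorem rel_refl {a : V} (ha : Pt T a) : Rel B T a a := by
  obtain ⟨φ, hφ⟩ := ha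
  obtain ⟨b, ψ, hb, h1, h2⟩ := h.opp hφ
  exact ⟨b, ⟨φ, ψ, hφ, hb, Or.inl h1⟩, ⟨ψ, φ, hb, hφ, Or.inl h2⟩⟩

theorem Rel.trans {a b c : V} (h1 : Rel B T a b) (h2 : Rel B T b c) : Rel B T a c := by
  obtain ⟨x, hax, hxb⟩ := h1
  obtain ⟨y, hby, hyc⟩ := h2
  obtain ⟨z, haz, hzy⟩ := short h hax hxb hby
  exact short h haz hzy hyc

theorem rel_of_adj {a b : V} (hab : Adj B T a b) : Rel B T a b := by
  obtain ⟨φ, -, hφ, -, -⟩ := id hab
  obtain ⟨c, hac, hca⟩ := rel_refl h ⟨φ, hφ⟩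
  exact short h hac hca hab

theorem rel_dim {a b : V} (hab : Rel B T a b) : dim h a = dim h b :=
  let ⟨_, h1, h2⟩ := hab
  (adj_dim h h1).trans (adj_dim h h2)

omit h in
theorem Rel.pt {a b : V} (hab : Rel B T a b) : Pt T b :=
  let ⟨_, _, _, ψ, _, hψ, _⟩ := hab
  ⟨ψ, hψ⟩

/-- The component of `a₀`, with zero adjoined. -/
def comp (a₀ : V) : Submodule k V where
  carrier := {x | x = 0 ∨ Rel B T a₀ x}
  zero_mem' := Or.inl rfl
  add_mem' := by
    rintro x y (rfl | hx) hy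
    · simpa using hy
    rcases hy with rfl | hy
    · exact Or.inr (by simpa using hx)
    refine (em (x + y = 0)).imp id fun hne => ?_
    obtain ⟨c, hxc, hcy⟩ := (Rel.trans h hx.symm hy)
    obtain ⟨ξ, hξ⟩ := two_step h hxc hcy.symm hne
    obtain ⟨z, ζ, hz, g1, g2⟩ := h.opp hξ
    have hadj : Adj B T (x + y) z := ⟨ξ, ζ, hξ, hz, Or.inl g1⟩
    have : B ζ x ≠ 0 ∨ B ζ y ≠ 0 := by
      by_contra! g
      exact g2 (by simp [g.1, g.2])
    have hz0 : Rel B T a₀ z := this.elim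
      (fun g => Rel.trans h hx (rel_of_adj h (Adj.of_ne h hz hx.pt g).symm))
      (fun g => Rel.trans h hy (rel_of_adj h (Adj.of_ne h hz hy.pt g).symm))
    exact Rel.trans h hz0 (rel_of_adj h hadj.symm)
  smul_mem' := by
    rintro c x (rfl | hx)
    · exact Or.inl (smul_zero c)
    refine (em (c = 0)).imp (fun e => by simp [e]) fun hc => ?_
    obtain ⟨y, h1, h2⟩ := hx
    exact ⟨y, h1, (adj_smul h hc h2.symm).symm⟩

theorem mem_comp {a x : V} (hx : x ∈ comp h a) (hx0 : x ≠ 0) : Rel B T a x := hx.resolve_left hx0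

theorem comp_sep {a x y : V} {φ ψ : V'} (hx : T x φ) (hy : T y ψ) (h1 : x ∈ comp h a) (h2 : y ∉ comp h a) :
    B φ y = 0 ∧ B ψ x = 0 := by
  refine ⟨?_, ?_⟩ <;> by_contra g <;> refine h2 (Or.inr (Rel.trans h (mem_comp h h1 (h.ne hx).1) (rel_of_adj h ?_)))
  · exact ⟨φ, ψ, hx, hy, Or.inl g⟩
  · exact ⟨φ, ψ, hx, hy, Or.inr g⟩

theorem rel_dual {a b : V} {φ ψ : V'} (hab : Rel B T a b) (ha : T a φ) (hb : T b ψ) :
    Rel B.flip (fun ξ x => T x ξ) φ ψ := by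
  have step : ∀ {a b : V} {φ ψ : V'}, Adj B T a b → T a φ → T b ψ → Rel B.flip (fun ξ x => T x ξ) φ ψ := by
    intro a b φ ψ hab ha hb
    obtain ⟨η, hη, hηa⟩ := Adj.both h hab.symm
    obtain ⟨z, ζ, hz, g1, -⟩ := h.opp hb
    obtain ⟨z', ζ', hz', g1', -⟩ := h.opp hη
    obtain ⟨y, ξ, hy, -, g2⟩ := h.opp hb
    have a1 : Adj B.flip (fun ξ x => T x ξ) φ η := ⟨a, b, ha, hη, Or.inl hηa⟩
    have a2 : Adj B.flip (fun ξ x => T x ξ) η ξ := ⟨b, y, hη, hy, Or.inl g2⟩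
    have a3 : Adj B.flip (fun ξ x => T x ξ) ξ ψ := ⟨y, b, hy, hb, Or.inr g2⟩
    exact short h.dual a1 a2 a3
  obtain ⟨c, h1, h2⟩ := hab
  obtain ⟨χ, -, hχ, -, -⟩ := id h2
  exact Rel.trans h.dual (step h1 ha hχ) (step h2 hχ hb)

theorem comp_pairing {a x : V} {φ : V'} (ha : T a φ) (hx : x ∈ comp h a)
    (h0 : ∀ ξ ∈ comp h.dual φ, B ξ x = 0) : x = 0 := by
  by_contra hne
  have hr := mem_comp h hx hne
  obtain ⟨ξ, hξ⟩ := hr.pt
  obtain ⟨z, ζ, hz, g1, g2⟩ := h.opp hξ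
  exact g2 (h0 ζ (Or.inr (rel_dual h (Rel.trans h hr (rel_of_adj h ⟨ξ, ζ, hξ, hz, Or.inr g2⟩)) ha hz)))

end Cfsg.Agent.TransvGroup
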