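import Cfsg.Agent.Lib.TransvGroup.Axioms

/-!
The two kinds of components of a transvection system.
* `full` : if some centre has two independent axes, every pair in the component occurs
* `exists_form` : otherwise the component carries an alternating form giving the axes
-/

set_option autoImplicit false
set_option linter.unusedSectionVars false

namespace Cfsg.Agent.TransvGroup

open Module

universe u v w

variable {k : Type u} [Field k] {V : Type v} [AddCommGroup V] [Module k V] [FiniteDimensional k V]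
  {V' : Type w} [AddCommGroup V'] [Module k V'] [FiniteDimensional k V']
  {B : V' →ₗ[k] V →ₗ[k] k} {T : V → V' → Prop} (h : Sys B T) {a₀ : V} {φ₀ : V'}

/-- Restriction of functionals to a subspace. -/
def res (B : V' →ₗ[k] V →ₗ[k] k) (A : Submodule k V) (P : Submodule k V') : P →ₗ[k] Dual k A where
  toFun ξ := (B ξ).domRestrict A
  map_add' ξ η := by ext; simp
  map_smul' c ξ := by ext; simp

include h

theorem comp_self {a : V} {φ : V'} (ha : T a φ) : a ∈ comp h a := Or.inr (rel_refl h ⟨φ, ha⟩)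

theorem axis_mem (ha₀ : T a₀ φ₀) {x : V} {ξ : V'} (hx : T x ξ) (hxA : x ∈ comp h a₀) : ξ ∈ comp h.dual φ₀ :=
  Or.inr (rel_dual h (mem_comp h hxA (h.ne hx).1) ha₀ hx)

theorem comp_pairing' (ha₀ : T a₀ φ₀) {ξ : V'} (hξ : ξ ∈ comp h.dual φ₀) (h0 : ∀ x ∈ comp h a₀, B ξ x = 0) :
    ξ = 0 :=
  comp_pairing h.dual ha₀ hξ h0

theorem res_bijective (ha₀ : T a₀ φ₀) : Function.Bijective (res B (comp h a₀) (comp h.dual φ₀)) := by
  have hinj : Function.Injective (res B (comp h a₀) (comp h.dual φ₀)) := by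
    refine (injective_iff_map_eq_zero _).2 fun ξ hξ => Subtype.ext ?_
    exact comp_pairing' h ha₀ ξ.2 fun x hx => LinearMap.congr_fun hξ ⟨x, hx⟩
  have hinj' : Function.Injective (res B.flip (comp h.dual φ₀) (comp h a₀)) := by
    refine (injective_iff_map_eq_zero _).2 fun x hx => Subtype.ext ?_
    exact comp_pairing h ha₀ x.2 fun ξ hξ => LinearMap.congr_fun hx ⟨ξ, hξ⟩
  refine ⟨hinj, (LinearMap.injective_iff_surjective_of_finrank_eq_finrank ?_).1 hinj⟩
  have h1 := LinearMap.finrank_le_finrank_of_injective hinj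
  have h2 := LinearMap.finrank_le_finrank_of_injective hinj'
  rw [Subspace.dual_finrank_eq] at h1 h2 ⊢
  omega

theorem adj_of_axes {a c : V} {φ : V'} (hφ : φ ∈ axes h a) (hc : Pt T c) (hne : B φ c ≠ 0) : Adj B T a c :=
  Adj.of_ne h (mem_axes h hφ fun e => hne (by simp [e])) hc hne

theorem exists_axis_killing {a : V} (hd : 2 ≤ dim h a) (c : V) : ∃ φ, T a φ ∧ B φ c = 0 := by
  by_contra! hc
  have hinj : Function.Injective ((B.flip c).domRestrict (axes h a)) := by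
    refine (injective_iff_map_eq_zero _).2 fun φ hφ => Subtype.ext ?_
    by_contra h0
    exact hc φ (mem_axes h φ.2 h0) hφ
  have := LinearMap.finrank_le_finrank_of_injective hinj
  rw [Module.finrank_self] at this
  exact absurd (hd.trans this) (by omega)

theorem axes_eq_of_killed {a b : V} {φ : V'} (ha : T a φ) (hd : 2 ≤ dim h a) (hab : Rel B T a b)
    (hkill : ∀ ξ, T a ξ → B ξ b = 0) : axes h a = axes h b := by
  have hnadj : ¬ Adj B T a b := fun g => by
    obtain ⟨ξ, hξ, hne⟩ := Adj.both h g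
    exact hne (hkill ξ hξ)
  have trans0 : ∀ c, Adj B T a c → Adj B T b c → ∀ ξ, T a ξ → B ξ c = 0 → ξ ∈ axes h b := by
    intro c hac hbc ξ hξ hξc
    obtain ⟨χ, hχ, hχa⟩ := Adj.both h hac.symm
    obtain ⟨ψ, hψ, hψc⟩ := Adj.both h hbc
    exact Or.inr (one h (one h hξ hχ hξc hχa) hψ (hkill ξ hξ) hψc)
  refine Submodule.eq_of_le_of_finrank_eq ?_ (rel_dim h hab)
  intro φ₁ hφ₁
  rcases hφ₁ with rfl | hφ₁
  · exact zero_mem _
  by_contra hnot
  obtain ⟨c, hac, hcb⟩ := hab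
  obtain ⟨ξ, hξ, hξc⟩ := exists_axis_killing h hd c
  have hξb := trans0 c hac hcb.symm ξ hξ hξc
  -- every common neighbour is killed by every common axis
  have kill : ∀ c', Adj B T a c' → Adj B T b c' → B ξ c' = 0 := by
    intro c' h1 h2
    by_contra hne
    refine hnot ?_
    set s := B φ₁ c' / B ξ c'
    have hmem : φ₁ - s • ξ ∈ axes h a := sub_mem (Or.inr hφ₁) ((axes h a).smul_mem s (Or.inr hξ))
    have hb : φ₁ - s • ξ ∈ axes h b := by
      rcases eq_or_ne (φ₁ - s • ξ) 0 with e | e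
      · rw [e]; exact zero_mem _
      · exact trans0 c' h1 h2 _ (mem_axes h hmem e) (by simp [s, hne])
    simpa using add_mem hb ((axes h b).smul_mem s hξb)
  obtain ⟨y, η, hy, hξy, -⟩ := h.opp hξ
  have hay : Adj B T a y := ⟨ξ, η, hξ, hy, Or.inl hξy⟩
  obtain ⟨φa, hφa, hφac⟩ := Adj.both h hac
  obtain ⟨ψ, hψ, hψc⟩ := Adj.both h hcb.symm
  have hby : ¬ (B φa y ≠ 0 ∧ B ψ y ≠ 0) := fun g =>
    hξy (kill y (Adj.of_ne h hφa ⟨η, hy⟩ g.1) (Adj.of_ne h hψ ⟨η, hy⟩ g.2))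
  obtain ⟨t, ht, g1, g2⟩ : ∃ t : k, t ≠ 0 ∧ B φa (c + t • y) ≠ 0 ∧ B ψ (c + t • y) ≠ 0 := by
    by_cases e1 : B φa y = 0
    · by_cases e2 : B ψ c + B ψ y = 0
      · refine ⟨-1, neg_ne_zero.2 one_ne_zero, by simpa [e1] using hφac, ?_⟩
        have : B ψ (c + (-1 : k) • y) = 2 * B ψ c := by simp; linear_combination -e2
        rw [this]; exact mul_ne_zero h.two hψc
      · exact ⟨1, one_ne_zero, by simpa [e1] using hφac, by simpa using e2⟩
    · have e3 : B ψ y = 0 := by_contra fun e3 => hby ⟨e1, e3⟩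
      by_cases e2 : B φa c + B φa y = 0
      · refine ⟨-1, neg_ne_zero.2 one_ne_zero, ?_, by simpa [e3] using hψc⟩
        have : B φa (c + (-1 : k) • y) = 2 * B φa c := by simp; linear_combination -e2
        rw [this]; exact mul_ne_zero h.two hφac
      · exact ⟨1, one_ne_zero, by simpa using e2, by simpa [e3] using hψc⟩
  have hrel : Rel B T c (t • y) := by
    have := Rel.trans h (rel_of_adj h hac.symm) (rel_of_adj h hay)
    obtain ⟨z, z1, z2⟩ := this
    exact ⟨z, z1, (adj_smul h ht z2.symm).symm⟩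
  have hsum : c + t • y ∈ comp h c :=
    add_mem (comp_self h (hcb.choose_spec.choose_spec.1)) (Or.inr hrel)
  have hne0 : c + t • y ≠ 0 := fun e => g1 (by simp [e])
  have hpt : Pt T (c + t • y) := (mem_comp h hsum hne0).pt
  have := kill _ (Adj.of_ne h hφa hpt g1) (Adj.of_ne h hψ hpt g2)
  simp [hξc, ht, hξy] at this

theorem full (ha₀ : T a₀ φ₀) (hd : 2 ≤ dim h a₀) {a : V} {ζ : V'} (ha : a ∈ comp h a₀) (ha0 : a ≠ 0)
    (hζ : ζ ∈ comp h.dual φ₀) (hζ0 : ζ ≠ 0) (hz : B ζ a = 0) : T a ζ := by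
  obtain ⟨φ, hφ⟩ := (mem_comp h ha ha0).pt
  have hda : 2 ≤ dim h a := rel_dim h (mem_comp h ha ha0) ▸ hd
  set A := comp h a₀
  have hN : ∀ b ∈ A, (∀ ξ, T a ξ → B ξ b = 0) → b ∈ Submodule.span k {a} := by
    intro b hb hk
    obtain ⟨c, hac, -⟩ := rel_refl h ⟨φ, hφ⟩
    obtain ⟨χ, hχ, hχa⟩ := Adj.both h hac.symm
    set b' := B χ a • b - B χ b • a
    rcases eq_or_ne b' 0 with e | e
    · refine Submodule.mem_span_singleton.2 ⟨(B χ a)⁻¹ * B χ b, ?_⟩
      rw [← smul_smul, ← sub_eq_zero.1 e, inv_smul_smul₀ hχa]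
    exfalso
    have hb' : b' ∈ A := sub_mem (A.smul_mem _ hb) (A.smul_mem _ ha)
    have hkill : ∀ ξ, T a ξ → B ξ b' = 0 := fun ξ hξ => by simp [b', hk ξ hξ, (h.ne hξ).2.2]
    have heq := axes_eq_of_killed h hφ hda (Rel.trans h (mem_comp h ha ha0).symm (mem_comp h hb' e)) hkill
    obtain ⟨ξ, hξ, hξc⟩ := Adj.both h hac
    have hξ' : T b' ξ := mem_axes h (heq.le (Or.inr hξ)) (h.ne hξ).2.1
    have hχb : B χ b' = 0 := by simp [b', mul_comm]
    have hχ' := one h hχ hξ' hχb hξc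
    exact hχa (axes_self h (heq.ge (Or.inr hχ') : χ ∈ axes h a))
  set r := res B A (comp h.dual φ₀)
  have hle : axes h a ≤ comp h.dual φ₀ := fun ξ hξ => by
    rcases hξ with rfl | hξ
    · exact zero_mem _
    · exact axis_mem h ha₀ hξ ha
  set W := ((axes h a).comap (comp h.dual φ₀).subtype).map r
  have hco : W.dualCoannihilator ≤ Submodule.span k {(⟨a, ha⟩ : A)} := by
    intro b hb
    rw [Submodule.mem_dualCoannihilator] at hb
    obtain ⟨c, hc⟩ := Submodule.mem_span_singleton.1 (hN b b.2 fun ξ hξ =>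
      hb _ ⟨⟨ξ, hle (Or.inr hξ)⟩, Or.inr hξ, rfl⟩)
    exact Submodule.mem_span_singleton.2 ⟨c, Subtype.ext hc⟩
  have hmem : r ⟨ζ, hζ⟩ ∈ W := by
    rw [← Subspace.dualCoannihilator_dualAnnihilator_eq (W := W)]
    refine (Submodule.mem_dualAnnihilator _).2 fun b hb => ?_
    obtain ⟨c, rfl⟩ := Submodule.mem_span_singleton.1 (hco hb)
    show B ζ ((c • (⟨a, ha⟩ : A) : A) : V) = 0
    simp [hz]
  obtain ⟨ξ, hξ, he⟩ := hmem
  obtain rfl := (res_bijective h ha₀).1 he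
  exact mem_axes h hξ hζ0

theorem dim_pos {a : V} {φ : V'} (ha : T a φ) : 1 ≤ dim h a :=
  Submodule.one_le_finrank_iff.2 fun e => (h.ne ha).2.1 ((Submodule.eq_bot_iff _).1 e φ (Or.inr ha))

theorem axis_unique {a : V} {φ ψ : V'} (hd : dim h a ≤ 1) (hφ : T a φ) (hψ : T a ψ) :
    ∃ c : k, ψ = c • φ := by
  have h1 : finrank k (axes h a) = 1 := le_antisymm hd (dim_pos h hφ)
  obtain ⟨c, hc⟩ := (finrank_eq_one_iff_of_nonzero' (⟨φ, Or.inr hφ⟩ : axes h a)
    (fun e => (h.ne hφ).2.1 (congrArg Subtype.val e))).1 h1 ⟨ψ, Or.inr hψ⟩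
  exact ⟨c, (congrArg Subtype.val hc).symm⟩

theorem centre_unique {e x : V} {φ : V'} (hd : dim h e ≤ 1) (he : T e φ) (hx : T x φ) :
    ∃ c : k, x = c • e := by
  obtain ⟨z, ψ, hz, hφz, hψe⟩ := h.opp he
  set u := B ψ e • x - B ψ x • e
  rcases eq_or_ne u 0 with hu | hu
  · exact ⟨(B ψ e)⁻¹ * B ψ x, by rw [← smul_smul, ← sub_eq_zero.1 hu, inv_smul_smul₀ hψe]⟩
  exfalso
  have hu' : u ∈ axes h.dual φ :=
    sub_mem ((axes h.dual φ).smul_mem _ (Or.inr hx)) ((axes h.dual φ).smul_mem _ (Or.inr he))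
  have huT : T u φ := mem_axes h.dual hu' hu
  have hψu : B ψ u = 0 := by simp [u, mul_comm]
  have hdu : dim h u ≤ 1 := by
    rw [adj_dim h (Adj.of_ne h huT ⟨ψ, hz⟩ hφz), ← adj_dim h (Adj.of_ne h he ⟨ψ, hz⟩ hφz)]
    exact hd
  obtain ⟨c, hc⟩ := axis_unique h hdu huT (one h hz huT hψu hφz)
  have : c * B φ z = 0 := by simpa [hc] using (h.ne hz).2.2
  rw [(mul_eq_zero.1 this).resolve_right hφz, zero_smul] at hc
  exact (h.ne hz).2.1 hc

theorem exists_form (ha₀ : T a₀ φ₀) (hd : dim h a₀ ≤ 1) :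
    ∃ Ω : LinearMap.BilinForm k (comp h a₀), Ω.IsAlt ∧ Ω.Nondegenerate ∧ ∀ x : comp h a₀, x ≠ 0 →
      ∀ ξ, T x ξ → ∃ c : k, c ≠ 0 ∧ (B ξ).domRestrict (comp h a₀) = c • Ω x := by
  set A := comp h a₀
  have hdim : ∀ x : A, x ≠ 0 → dim h (x : V) ≤ 1 := fun x hx =>
    rel_dim h (mem_comp h x.2 (fun e => hx (Subtype.ext e))) ▸ hd
  have hpt : ∀ x : A, x ≠ 0 → Pt T (x : V) := fun x hx =>
    (mem_comp h x.2 (fun e => hx (Subtype.ext e))).pt
  set N : Set A := {z | B φ₀ z ≠ 0}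
  have hN0 : ∀ z ∈ N, z ≠ (0 : A) := fun z hz e => hz (by simp [e])
  -- the normalised axis
  have hex : ∀ z ∈ N, ∃ η, T z η ∧ B η a₀ = -B φ₀ z := by
    intro z hz
    obtain ⟨η, hη, hηa⟩ := Adj.both h (Adj.of_ne h ha₀ (hpt z (hN0 z hz)) hz).symm
    refine ⟨(-B φ₀ z * (B η a₀)⁻¹) • η, h.smulR hη (mul_ne_zero (neg_ne_zero.2 hz) (inv_ne_zero hηa)), ?_⟩
    simp [hηa]
  choose! hat hhat hhat0 using hex
  have hmut : ∀ {x y : A} {ξ η : V'}, T x ξ → T y η → B ξ y = 0 → B η x = 0 := by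
    intro x y ξ η hx hy h1
    by_contra h2
    obtain ⟨ξ', hξ', h3⟩ := Adj.both h (⟨ξ, η, hx, hy, Or.inr h2⟩ : Adj B T (x : V) y)
    obtain ⟨c, rfl⟩ := axis_unique h (hdim x fun e => (h.ne hx).1 (by simp [e])) hx hξ'
    simp [h1] at h3
  have anti : ∀ z ∈ N, ∀ w ∈ N, B (hat z) w = -B (hat w) z := by
    intro z hz w hw
    by_cases h0 : B (hat w) z = 0
    · rw [h0, neg_zero, hmut (hhat w hw) (hhat z hz) h0]
    have hza : B (hat z) a₀ ≠ 0 := by rw [hhat0 z hz]; exact neg_ne_zero.2 hz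
    have hwa : B (hat w) a₀ = -B φ₀ w := hhat0 w hw
    set c := B φ₀ w / B (hat w) z
    have hc := h.conj ha₀ (hhat z hz) (c / B (hat z) a₀)
    rw [div_mul_cancel₀ c hza] at hc
    set x : A := ⟨a₀, comp_self h ha₀⟩ + c • z
    have hxT : T (x : V) (φ₀ - (c / B (hat z) a₀ * B φ₀ z) • hat z) := hc
    have hw0 : B (hat w) (x : V) = 0 := by
      simp [x, hwa, c, h0]
    have h5 := hmut (hhat w hw) hxT hw0
    rw [map_sub, map_smul, LinearMap.sub_apply, LinearMap.smul_apply, hhat0 z hz, smul_eq_mul] at h5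
    have h6 : c / -B φ₀ z * B φ₀ z = -c := by rw [div_neg, neg_mul, div_mul_cancel₀ c hz]
    rw [h6, sub_eq_zero, neg_mul] at h5
    simp only [c] at h5
    field_simp at h5
    exact mul_left_cancel₀ hw (by linear_combination h5)
  obtain ⟨y, η, hy, hφy, -⟩ := h.opp ha₀
  have hyA : y ∈ A := Or.inr (rel_of_adj h (Adj.of_ne h ha₀ ⟨η, hy⟩ hφy))
  have hspan : Submodule.span k N = ⊤ := by
    refine eq_top_iff.2 fun v _ => ?_
    have hyN : (⟨y, hyA⟩ : A) ∈ N := hφy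
    by_cases hv : B φ₀ v = 0
    · have h1 : v + ⟨y, hyA⟩ ∈ N := by simp [N, hv, hφy]
      simpa using sub_mem (Submodule.subset_span h1) (Submodule.subset_span hyN : _ ∈ Submodule.span k N)
    · exact Submodule.subset_span hv
  have huniq : ∀ {f g : Dual k A}, (∀ z ∈ N, f z = g z) → f = g := fun hfg =>
    LinearMap.ext_on hspan hfg
  let S : Submodule k A :=
    { carrier := {u | ∃ f : Dual k A, ∀ z ∈ N, f z = -B (hat z) u}
      zero_mem' := ⟨0, by simp⟩
      add_mem' := by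
        rintro u v ⟨f, hf⟩ ⟨g, hg⟩
        exact ⟨f + g, fun z hz => by simp [hf z hz, hg z hz]; ring⟩
      smul_mem' := by
        rintro c u ⟨f, hf⟩
        exact ⟨c • f, fun z hz => by simp [hf z hz]⟩ }
  have hS : ∀ u : A, ∃ f : Dual k A, ∀ z ∈ N, f z = -B (hat z) u := fun u => by
    have : (⊤ : Submodule k A) ≤ S := hspan ▸ Submodule.span_le.2 fun w hw =>
      ⟨(B (hat w)).domRestrict A, fun z hz => by simpa using anti w hw z hz⟩
    exact this Submodule.mem_top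
  choose F hF using hS
  let Ω : LinearMap.BilinForm k A :=
    { toFun := F
      map_add' := fun u v => huniq fun z hz => by simp [hF _ z hz]; ring
      map_smul' := fun c u => huniq fun z hz => by simp [hF _ z hz] }
  have hΩ : ∀ u, ∀ z ∈ N, Ω u z = -B (hat z) u := hF
  have hΩN : ∀ w ∈ N, Ω w = (B (hat w)).domRestrict A := fun w hw => huniq fun z hz => by
    rw [hΩ w z hz]; simpa using (anti w hw z hz).symm
  have skewN : ∀ u, ∀ z ∈ N, Ω u z = -Ω z u := fun u z hz => by rw [hΩ u z hz, hΩN z hz]; rfl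
  have skew : ∀ u v, Ω u v = -Ω v u := by
    intro u v
    have : Ω u = -(Ω.flip u) := huniq fun z hz => skewN u z hz
    exact LinearMap.congr_fun this v
  have halt : Ω.IsAlt := fun u => by
    have := skew u u
    have h2 : (2 : k) * Ω u u = 0 := by linear_combination this
    exact (mul_eq_zero.1 h2).resolve_left h.two
  have hnd : ∀ u, (∀ v, Ω u v = 0) → u = 0 := by
    intro u hu
    by_contra hu0
    obtain ⟨ξ, hξ⟩ := hpt u hu0
    obtain ⟨z, ζ, hz, g1, -⟩ := h.opp hξ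
    have hzA : z ∈ A := Or.inr (Rel.trans h (mem_comp h u.2 fun e => hu0 (Subtype.ext e))
      (rel_of_adj h (Adj.of_ne h hξ ⟨ζ, hz⟩ g1)))
    refine g1 (LinearMap.congr_fun (huniq (f := (B ξ).domRestrict A) (g := 0) fun w hw => ?_) ⟨z, hzA⟩)
    have := hu w
    rw [hΩ u w hw, neg_eq_zero] at this
    exact hmut (hhat w hw) hξ this
  refine ⟨Ω, halt, ⟨hnd, fun v hv => hnd v fun w => by rw [skew, hv w, neg_zero]⟩, fun x hx ξ hξ => ?_⟩
  obtain ⟨z, ζ, hz, g1, -⟩ := h.opp hξ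
  set f : Dual k A := (B ξ).domRestrict A
  have hf0 : ∀ w ∈ N, (f w = 0 ↔ Ω x w = 0) := fun w hw => by
    rw [hΩ x w hw, neg_eq_zero]
    exact ⟨fun e => hmut hξ (hhat w hw) e, fun e => hmut (hhat w hw) hξ e⟩
  obtain ⟨w₀, hw₀, hfw₀⟩ : ∃ w ∈ N, f w ≠ 0 := by
    by_contra! hall
    have := huniq (f := Ω x) (g := 0) fun w hw => (hf0 w hw).1 (hall w hw)
    exact hx (hnd x fun v => LinearMap.congr_fun this v)
  set κ := Ω x w₀ / f w₀
  have hκ : κ ≠ 0 := div_ne_zero (fun e => hfw₀ ((hf0 w₀ hw₀).2 e)) hfw₀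
  suffices hprop : Ω x = κ • f by exact ⟨κ⁻¹, inv_ne_zero hκ, by rw [hprop, inv_smul_smul₀ hκ]⟩
  by_cases hker : ∀ v, f v = 0 → B φ₀ (v : V) = 0
  · -- `x` is a multiple of `a₀`
    set g : Dual k A := (B φ₀).domRestrict A
    obtain ⟨ρ, hρ⟩ : ∃ ρ, g = ρ • f := by
      refine ⟨g w₀ / f w₀, LinearMap.ext fun v => ?_⟩
      have := hker (v - (f v / f w₀) • w₀) (by simp [hfw₀])
      simp only [Submodule.coe_sub, Submodule.coe_smul, map_sub, map_smul, smul_eq_mul, sub_eq_zero] at this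
      simp only [g, LinearMap.domRestrict_apply, LinearMap.smul_apply, smul_eq_mul]
      rw [this]; ring
    have hρ0 : ρ ≠ 0 := fun e => hφy (by simpa [e, g] using LinearMap.congr_fun hρ ⟨y, hyA⟩)
    have hξA := axis_mem h ha₀ hξ x.2
    have heq : φ₀ = ρ • ξ := sub_eq_zero.1 (comp_pairing' h ha₀
      (sub_mem (axis_mem h ha₀ ha₀ (comp_self h ha₀)) ((comp h.dual φ₀).smul_mem ρ hξA))
      fun v hv => by simpa [g, f, sub_eq_zero] using LinearMap.congr_fun hρ ⟨v, hv⟩)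
    obtain ⟨c, hc⟩ := centre_unique h hd ha₀ (heq ▸ h.smulR hξ hρ0)
    have hxc : x = c • (⟨a₀, comp_self h ha₀⟩ : A) := Subtype.ext hc
    have he : Ω x = c • g := huniq fun w hw => by
      rw [hΩ x w hw, LinearMap.smul_apply]; simp [g, hc, hhat0 w hw]
    rw [he, hρ, smul_smul]
    congr 1
    have := congrArg (fun F : Dual k A => F w₀) he
    simp only [hρ, LinearMap.smul_apply, smul_eq_mul] at this
    simp only [κ, this]
    field_simp
  push Not at hker
  obtain ⟨y₀, hy₀, hy₀'⟩ := hker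
  refine LinearMap.ext fun v => ?_
  have hkill : ∀ v, f v = 0 → Ω x v = 0 := by
    intro v hv
    by_cases hvN : v ∈ N
    · exact (hf0 v hvN).1 hv
    have h1 : v + y₀ ∈ N := by simpa [N, show B φ₀ (v : V) = 0 by simpa [N] using hvN] using hy₀'
    have := (hf0 _ h1).1 (by simp [hv, hy₀])
    simpa [(hf0 y₀ hy₀').1 hy₀] using this
  have := hkill (v - (f v / f w₀) • w₀) (by simp [hfw₀])
  simp only [map_sub, map_smul, smul_eq_mul, sub_eq_zero] at this
  rw [this, LinearMap.smul_apply, smul_eq_mul]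
  simp only [κ]
  ring

end Cfsg.Agent.TransvGroup
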