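import Cfsg.Agent.Lib.TransvGroup.Generation

/-!
The decomposition of a transvection system and of its group.
* `Component`, `grp`, `space` : the components, their groups and subspaces
* `decomposition` : McLaughlin's theorem over a prime field of odd order
-/

set_option autoImplicit false
set_option linter.unusedSectionVars false
set_option linter.unusedVariables false

namespace Cfsg.Agent.TransvGroup

open Module

universe u v w

section Sys

variable {k : Type u} [Field k] {V : Type v} [AddCommGroup V] [Module k V] [FiniteDimensional k V]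
  {V' : Type w} [AddCommGroup V'] [Module k V'] [FiniteDimensional k V']
  {B : V' →ₗ[k] V →ₗ[k] k} {T : V → V' → Prop} (h : Sys B T)

/-- The components of a system. -/
def Component : Type v := {A : Submodule k V // ∃ a φ, T a φ ∧ A = comp h a}

variable {h}

/-- A centre in the component. -/
noncomputable def Component.ctr (C : Component h) : V := C.2.choose

/-- An axis of the chosen centre. -/
noncomputable def Component.ax (C : Component h) : V' := C.2.choose_spec.choose

theorem Component.spec (C : Component h) : T C.ctr C.ax := C.2.choose_spec.choose_spec.1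

theorem Component.eq (C : Component h) : C.1 = comp h C.ctr := C.2.choose_spec.choose_spec.2

/-- The space of axes of the component. -/
noncomputable def Component.axisSpace (C : Component h) : Submodule k V' := comp h.dual C.ax

/-- The common kernel of all axes. -/
def fixedPart (h : Sys B T) : Submodule k V where
  carrier := {v | ∀ C : Component h, ∀ ξ ∈ C.axisSpace, B ξ v = 0}
  zero_mem' := by simp
  add_mem' := fun hu hv C ξ hξ => by simp [hu C ξ hξ, hv C ξ hξ]
  smul_mem' := fun c v hv C ξ hξ => by simp [hv C ξ hξ]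

variable (h)
include h

theorem comp_eq_of_mem {a x : V} (hx : x ∈ comp h a) (hx0 : x ≠ 0) : comp h x = comp h a := by
  have hr := mem_comp h hx hx0
  ext y
  exact or_congr Iff.rfl ⟨fun g => Rel.trans h hr g, fun g => Rel.trans h hr.symm g⟩

theorem exists_component {x : V} {ξ : V'} (hx : T x ξ) : ∃ C : Component h, x ∈ C.1 :=
  ⟨⟨comp h x, x, ξ, hx, rfl⟩, comp_self h hx⟩

theorem component_unique {C D : Component h} {x : V} (hC : x ∈ C.1) (hD : x ∈ D.1) (hx : x ≠ 0) : C = D :=
  Subtype.ext (by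
    rw [C.eq] at hC ⊢
    rw [D.eq] at hD ⊢
    rw [← comp_eq_of_mem h hC hx, comp_eq_of_mem h hD hx])

theorem axis_kills {C : Component h} {ξ : V'} {x y : V} (hx : T x ξ) (hxC : x ∉ C.1) (hy : y ∈ C.1) :
    B ξ y = 0 := by
  rcases eq_or_ne y 0 with rfl | hy0
  · simp
  rw [C.eq] at hy hxC
  obtain ⟨η, hη⟩ := (mem_comp h hy hy0).pt
  exact (comp_sep h hη hx hy hxC).2

theorem axisSpace_kills {C D : Component h} (hne : C ≠ D) {ξ : V'} (hξ : ξ ∈ C.axisSpace) {y : V}
    (hy : y ∈ D.1) : B ξ y = 0 := by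
  rcases eq_or_ne ξ 0 with rfl | hξ0
  · simp
  have hr := mem_comp h.dual hξ hξ0
  obtain ⟨x, hx⟩ := hr.pt
  have hxr : Rel B T C.ctr x := rel_dual h.dual hr C.spec hx
  refine axis_kills h hx (fun hxD => hne (component_unique h (x := x) ?_ hxD (h.ne hx).1)) hy
  rw [C.eq]; exact Or.inr hxr

theorem exists_proj (C : Component h) (v : V) : ∃ x ∈ C.1, ∀ ξ ∈ C.axisSpace, B ξ (v - x) = 0 := by
  obtain ⟨⟨x, hx⟩, he⟩ := (res_bijective h.dual (a₀ := C.ax) (φ₀ := C.ctr) C.spec).2
    ((B.flip v).domRestrict C.axisSpace)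
  refine ⟨x, C.eq ▸ hx, fun ξ hξ => ?_⟩
  have := LinearMap.congr_fun he ⟨ξ, hξ⟩
  rw [map_sub, sub_eq_zero]
  exact this.symm

theorem eq_zero_of_killed (C : Component h) {x : V} (hx : x ∈ C.1) (h0 : ∀ ξ ∈ C.axisSpace, B ξ x = 0) : x = 0 :=
  comp_pairing h C.spec (C.eq ▸ hx) h0

end Sys

section Group

variable {p : ℕ} [Fact p.Prime] {W : Type v} [AddCommGroup W] [Module (ZMod p) W] [Finite W]
  {H : Subgroup (W ≃ₗ[ZMod p] W)} {T : Set (W ≃ₗ[ZMod p] W)}

local notation "F" => ZMod p
variable {h : Sys (LinearMap.id : Dual (ZMod p) W →ₗ[ZMod p] W →ₗ[ZMod p] ZMod p) (tvRel H)}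

/-- The group of a component. -/
noncomputable def grp (h : Sys (LinearMap.id : Dual (ZMod p) W →ₗ[ZMod p] W →ₗ[ZMod p] ZMod p) (tvRel H)) : Option (Component h) → Subgroup (W ≃ₗ[F] W)
  | none => ⊥
  | some C => Subgroup.closure {g | ∃ x ξ, tvRel H x ξ ∧ x ∈ C.1 ∧ IsTv g x ξ}

/-- The subspace of a component. -/
def space (h : Sys (LinearMap.id : Dual (ZMod p) W →ₗ[ZMod p] W →ₗ[ZMod p] ZMod p) (tvRel H)) : Option (Component h) → Submodule F W
  | none => ⊥
  | some C => C.1

/-- The pointwise stabiliser of a subspace. -/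
def fixing (U : Submodule F W) : Subgroup (W ≃ₗ[F] W) where
  carrier := {g | ∀ v ∈ U, g v = v}
  one_mem' := fun v _ => rfl
  mul_mem' := fun hg hh v hv => by rw [LinearEquiv.mul_apply, hh v hv, hg v hv]
  inv_mem' := fun {g} hg v hv => g.injective (by rw [← LinearEquiv.mul_apply, mul_inv_cancel, hg v hv]; rfl)

/-- The stabiliser of a subspace. -/
def stab (U : Submodule F W) : Subgroup (W ≃ₗ[F] W) where
  carrier := {g | U.map (g : W →ₗ[F] W) = U}
  one_mem' := by simp only [Set.mem_setOf_eq]; exact Submodule.map_id U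
  mul_mem' := fun {g g'} hg hh => by
    show U.map ((g * g' : W ≃ₗ[F] W) : W →ₗ[F] W) = U
    rw [show ((g * g' : W ≃ₗ[F] W) : W →ₗ[F] W) = (g : W →ₗ[F] W) ∘ₗ (g' : W →ₗ[F] W) from rfl, Submodule.map_comp,
      hh, hg]
  inv_mem' := fun {g} hg => by
    show U.map ((g⁻¹ : W ≃ₗ[F] W) : W →ₗ[F] W) = U
    conv_lhs => rw [← hg]
    rw [← Submodule.map_comp, show ((g⁻¹ : W ≃ₗ[F] W) : W →ₗ[F] W) ∘ₗ (g : W →ₗ[F] W) = LinearMap.id from
      LinearMap.ext fun x => g.symm_apply_apply x, Submodule.map_id]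

theorem isTv_stab {g : W ≃ₗ[F] W} {x : W} {ξ : Dual F W} (hg : IsTv g x ξ) (U : Submodule F W)
    (hU : (∀ v ∈ U, ξ v = 0) ∨ x ∈ U) : g ∈ stab U := by
  have hle : U.map (g : W →ₗ[F] W) ≤ U := by
    rintro _ ⟨v, hv, rfl⟩
    show g v ∈ U
    rw [hg v]
    rcases hU with h0 | hx
    · simpa [h0 v hv] using hv
    · exact add_mem hv (U.smul_mem _ hx)
  exact Submodule.eq_of_le_of_finrank_eq hle (LinearEquiv.finrank_map_eq g U)

theorem isTv_fixing {g : W ≃ₗ[F] W} {x : W} {ξ : Dual F W} (hg : IsTv g x ξ) (U : Submodule F W)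
    (hU : ∀ v ∈ U, ξ v = 0) : g ∈ fixing U := fun v hv => by simp [hg v, hU v hv]

theorem grp_le : ∀ o : Option (Component h), grp h o ≤ H
  | none => bot_le
  | some C => (Subgroup.closure_le _).2 (by
      rintro g ⟨x, ξ, ⟨-, -, -, g', hg', hgv⟩, -, hg⟩
      rw [hg.unique hgv]; exact hg')

theorem axis_mem_axisSpace {C : Component h} {x : W} {ξ : Dual F W} (hx : tvRel H x ξ) (hxC : x ∈ C.1) :
    ξ ∈ C.axisSpace := axis_mem h C.spec hx (C.eq ▸ hxC)

theorem grp_fixing : ∀ o : Option (Component h), grp h o ≤ fixing (fixedPart h) ∧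
    ∀ D : Component h, o ≠ some D → grp h o ≤ fixing D.1
  | none => ⟨bot_le, fun _ _ => bot_le⟩
  | some C => by
    refine ⟨(Subgroup.closure_le _).2 ?_, fun D hne => (Subgroup.closure_le _).2 ?_⟩
    · rintro g ⟨x, ξ, hx, hxC, hg⟩
      exact isTv_fixing hg _ fun v hv => hv C ξ (axis_mem_axisSpace hx hxC)
    · rintro g ⟨x, ξ, hx, hxC, hg⟩
      exact isTv_fixing hg _ fun v hv =>
        axisSpace_kills h (fun e => hne (congrArg some e)) (axis_mem_axisSpace hx hxC) hv

theorem grp_fixing_space (o o' : Option (Component h)) (hne : o ≠ o') : grp h o ≤ fixing (space h o') :=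
  match o' with
  | none => fun g _ v hv => by rw [show v = 0 from hv, map_zero]
  | some D => (grp_fixing o).2 D hne

theorem le_stab (hHT : H = Subgroup.closure T) (hT : ∀ t ∈ T, ∃ b ψ, tvRel H b ψ ∧ IsTv t b ψ) :
    H ≤ stab (fixedPart h) ∧ ∀ o, H ≤ stab (space h o) := by
  refine ⟨?_, fun o => ?_⟩ <;> refine hHT.le.trans ((Subgroup.closure_le _).2 fun t ht => ?_) <;>
    obtain ⟨b, ψ, hb, htv⟩ := hT t ht <;> obtain ⟨C, hC⟩ := exists_component h hb
  · exact isTv_stab htv _ (Or.inl fun v hv => hv C ψ (axis_mem_axisSpace hb hC))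
  · match o with
    | none => exact isTv_stab htv _ (Or.inl fun v hv => by rw [show v = 0 from hv, map_zero])
    | some D =>
      by_cases hbD : b ∈ D.1
      · exact isTv_stab htv _ (Or.inr hbD)
      · exact isTv_stab htv _ (Or.inl fun v hv => axis_kills h hb hbD hv)

theorem grp_commute : ∀ o o' : Option (Component h), o ≠ o' → ∀ a ∈ grp h o, ∀ b ∈ grp h o', a * b = b * a
  | none, _, _, a, ha, b, _ => by rw [show a = 1 from ha, one_mul, mul_one]
  | some _, none, _, a, _, b, hb => by rw [show b = 1 from hb, one_mul, mul_one]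
  | some C, some D, hne, a, ha, b, hb => by
    refine Subgroup.mem_centralizer_iff.1 ((Subgroup.closure_le _).2 ?_ hb) a ha
    rintro t ⟨y, ζ, hy, hyD, ht⟩
    refine Subgroup.mem_centralizer_iff.2 fun g hg => ?_
    refine (Subgroup.mem_centralizer_iff.1 ((Subgroup.closure_le (Subgroup.centralizer {t})).2 ?_ hg) t rfl).symm
    rintro g ⟨x, ξ, hx, hxC, hg⟩
    refine Subgroup.mem_centralizer_iff.2 fun t' ht' => ?_
    rw [Set.mem_singleton_iff.1 ht']
    have hCD : C ≠ D := fun e => hne (congrArg some e)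
    have e1 : ξ y = 0 := axisSpace_kills h hCD (axis_mem_axisSpace hx hxC) hyD
    have e2 : ζ x = 0 := axisSpace_kills h hCD.symm (axis_mem_axisSpace hy hyD) hxC
    refine LinearEquiv.ext fun v => ?_
    rw [LinearEquiv.mul_apply, LinearEquiv.mul_apply, hg, ht, ht, hg]
    simp [e1, e2]
    abel

theorem iSup_grp (hHT : H = Subgroup.closure T) (hT : ∀ t ∈ T, ∃ b ψ, tvRel H b ψ ∧ IsTv t b ψ) :
    (⨆ o, grp h o) = H := by
  refine le_antisymm (iSup_le grp_le) ?_
  refine hHT.le.trans ((Subgroup.closure_le _).2 fun t ht => ?_)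
  obtain ⟨b, ψ, hb, htv⟩ := hT t ht
  obtain ⟨C, hC⟩ := exists_component h hb
  exact le_iSup (grp h) (some C) (Subgroup.subset_closure ⟨b, ψ, hb, hC, htv⟩)

theorem grp_normal (hHT : H = Subgroup.closure T) (hT : ∀ t ∈ T, ∃ b ψ, tvRel H b ψ ∧ IsTv t b ψ)
    (o : Option (Component h)) : ((grp h o).subgroupOf H).Normal := by
  refine (Subgroup.normal_subgroupOf_iff (grp_le o)).2 fun a x ha hx => ?_
  have hn : H ≤ Subgroup.normalizer (grp h o : Set (W ≃ₗ[F] W)) := by
    refine (iSup_grp hHT hT (h := h)).ge.trans (iSup_le fun o' => ?_)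
    rcases eq_or_ne o' o with rfl | hne
    · exact Subgroup.le_normalizer
    · exact (fun g hg => Subgroup.centralizer_le_normalizer _ (Subgroup.mem_centralizer_iff.2 fun b hb =>
        (grp_commute o' o hne g hg b hb).symm))
  exact (Subgroup.mem_normalizer_iff.1 (hn hx) a).1 ha


theorem fixedPart_killed (C : Component h) : ∀ v ∈ fixedPart h, ∀ ξ ∈ C.axisSpace, ξ v = 0 := fun _ hv =>
  hv C

theorem isInternal {n : ℕ} (e : Fin n ≃ Option (Component h)) :
    DirectSum.IsInternal (Fin.cases (fixedPart h) (fun j => space h (e j)) : Fin (n + 1) → Submodule F W) := by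
  classical
  set U : Fin (n + 1) → Submodule F W := Fin.cases (fixedPart h) (fun j => space h (e j))
  have hU0 : U 0 = fixedPart h := rfl
  have hUs : ∀ j, U j.succ = space h (e j) := fun j => rfl
  -- the axes of a component kill every other summand
  have kill : ∀ (j : Fin n) (C : Component h), e j = some C → ∀ i, i ≠ j.succ → ∀ v ∈ U i,
      ∀ ξ ∈ C.axisSpace, ξ v = 0 := by
    intro j C hj i hi v hv ξ hξ
    induction i using Fin.cases with
    | zero => exact hv C ξ hξ
    | succ i =>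
      rw [hUs] at hv
      rcases hD : e i with _ | D <;> rw [hD] at hv
      · rw [show v = 0 from hv, map_zero]
      · refine axisSpace_kills h (fun eCD => hi ?_) hξ hv
        rw [e.injective (hD.trans (eCD ▸ hj.symm))]
  rw [DirectSum.isInternal_submodule_iff_iSupIndep_and_iSup_eq_top]
  constructor
  · rw [iSupIndep_def]
    intro i
    rw [Submodule.disjoint_def]
    intro x hx hx'
    have hk : ∀ (j : Fin n) (C : Component h), e j = some C → i = j.succ → x = 0 := by
      intro j C hj hij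
      rw [hij, hUs, hj] at hx
      refine eq_zero_of_killed h C hx fun ξ hξ => ?_
      have hle : (⨆ (i') (_ : i' ≠ i), U i') ≤ LinearMap.ker ξ :=
        iSup₂_le fun i' hi' v hv => kill j C hj i' (hij ▸ hi') v hv ξ hξ
      exact hle hx'
    induction i using Fin.cases with
    | succ j =>
      rcases hj : e j with _ | C
      · rw [hUs, hj] at hx; exact hx
      · exact hk j C hj rfl
    | zero =>
      rw [iSup_subtype', Submodule.mem_iSup_iff_exists_finsupp] at hx'
      obtain ⟨f, hf, rfl⟩ := hx'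
      refine Finset.sum_eq_zero fun i hi => ?_
      obtain ⟨j, hj⟩ := Fin.eq_succ_of_ne_zero i.2
      rcases hjC : e j with _ | C
      · have := hf i; rw [hj, hUs, hjC] at this; exact this
      have hfi := hf i
      rw [hj, hUs, hjC] at hfi
      refine eq_zero_of_killed h C hfi fun ξ hξ => ?_
      have h1 : ξ (f.sum fun _ v => v) = 0 := hx C ξ hξ
      rw [Finsupp.sum, map_sum, Finset.sum_eq_single i (fun b _ hb => ?_) (fun hn => absurd hi hn)] at h1
      · exact h1
      · exact kill j C hjC b (fun eb => hb (Subtype.ext (eb.trans hj.symm))) _ (hf b) ξ hξ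
  · refine eq_top_iff.2 fun v _ => ?_
    haveI : Finite (Component h) := Subtype.finite
    haveI := Fintype.ofFinite (Component h)
    choose x hx hxv using fun C : Component h => exists_proj h C v
    have hsum : ∑ C, x C ∈ ⨆ i, U i := Submodule.sum_mem _ fun C _ =>
      le_iSup U (e.symm (some C)).succ (by rw [hUs, Equiv.apply_symm_apply]; exact hx C)
    have hrest : v - ∑ C, x C ∈ fixedPart h := fun D ξ hξ => by
      have h2 := hxv D ξ hξ
      simp only [map_sub, LinearMap.id_coe, id_eq, map_sum] at h2 ⊢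
      exact (congrArg (ξ v - ·) (Finset.sum_eq_single (f := fun C => ξ (x C)) D
        (fun C _ hC => axisSpace_kills h hC.symm hξ (hx C))
        (fun hn => absurd (Finset.mem_univ _) hn))).trans h2
    simpa using add_mem (le_iSup U 0 hrest) hsum

theorem exists_range (hHT : H = Subgroup.closure T) (hT : ∀ t ∈ T, ∃ b ψ, tvRel H b ψ ∧ IsTv t b ψ)
    (o : Option (Component h)) :
    ∃ ρ : ↥(grp h o) →* (↥(space h o) ≃ₗ[F] ↥(space h o)),
      (∀ (g : ↥(grp h o)) (v : ↥(space h o)), ((ρ g v : ↥(space h o)) : W) = (g : W ≃ₗ[F] W) (v : W)) ∧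
      ((ρ.range : Set (↥(space h o) ≃ₗ[F] ↥(space h o))) =
          {f : ↥(space h o) ≃ₗ[F] ↥(space h o) | LinearMap.det (f : ↥(space h o) →ₗ[F] ↥(space h o)) = 1} ∨
        ∃ B : LinearMap.BilinForm F ↥(space h o), B.IsAlt ∧ B.Nondegenerate ∧
          (ρ.range : Set (↥(space h o) ≃ₗ[F] ↥(space h o))) = {f | ∀ x y, B (f x) (f y) = B x y}) := by
  have hst : ∀ g ∈ grp h o, (space h o).map (g : W →ₗ[F] W) = space h o := fun g hg =>
    (le_stab hHT hT).2 o (grp_le o hg)
  let ρ : ↥(grp h o) →* (↥(space h o) ≃ₗ[F] ↥(space h o)) :=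
    { toFun := fun g => LinearEquiv.ofSubmodules (g : W ≃ₗ[F] W) _ _ (hst g g.2)
      map_one' := by ext v; rfl
      map_mul' := fun g g' => by ext v; rfl }
  have hρ : ∀ (g : ↥(grp h o)) (v : ↥(space h o)), ((ρ g v : ↥(space h o)) : W) = (g : W ≃ₗ[F] W) (v : W) :=
    fun g v => rfl
  refine ⟨ρ, hρ, ?_⟩
  cases o with
  | none =>
    left
    have hsub : ∀ v : ↥(space h none), v = 0 := fun v => Subtype.ext v.2
    refine Set.ext fun f => ⟨fun _ => ?_, fun _ => ⟨1, LinearEquiv.ext fun v => (hsub _).trans (hsub _).symm⟩⟩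
    show LinearMap.det (f : ↥(space h none) →ₗ[F] ↥(space h none)) = 1
    rw [show (f : ↥(space h none) →ₗ[F] ↥(space h none)) = LinearMap.id from
      LinearMap.ext fun v => (hsub _).trans (hsub _).symm, LinearMap.det_id]
  | some C =>
    have hA : (space h (some C)) = comp h C.ctr := C.eq
    have hgen : ∀ f ∈ ρ.range, f ∈ Subgroup.closure
        {f : (space h (some C)) ≃ₗ[F] (space h (some C)) | ∃ (x : (space h (some C))) (ξ : Dual F W), tvRel H x ξ ∧ IsTv f x (ξ.domRestrict (space h (some C)))} := by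
      rintro _ ⟨⟨g, hg⟩, rfl⟩
      induction hg using Subgroup.closure_induction with
      | mem g hg =>
        obtain ⟨x, ξ, hx, hxC, hgv⟩ := hg
        exact Subgroup.subset_closure ⟨⟨x, hxC⟩, ξ, hx, fun v => Subtype.ext (by rw [hρ]; exact hgv v)⟩
      | one => exact (map_one ρ).symm ▸ one_mem _
      | mul g g' hg hg' h1 h2 => exact (map_mul ρ ⟨g, hg⟩ ⟨g', hg'⟩).symm ▸ mul_mem h1 h2
      | inv g hg h1 => exact (map_inv ρ ⟨g, hg⟩).symm ▸ inv_mem h1
    have hlift : ∀ (x : (space h (some C))) (ξ : Dual F W), tvRel H x ξ → ∃ f ∈ ρ.range, IsTv f x (ξ.domRestrict (space h (some C))) := by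
      intro x ξ hx
      obtain ⟨g, hg, hgv⟩ := hx.2.2.2
      exact ⟨_, ⟨⟨g, Subgroup.subset_closure ⟨x, ξ, hx, x.2, hgv⟩⟩, rfl⟩, fun v => Subtype.ext (by rw [hρ]; exact hgv v)⟩
    have htriv : ∀ (a : (space h (some C))) (φ : Dual F (space h (some C))), a = 0 ∨ φ = 0 → ∃ f ∈ ρ.range, IsTv f a φ := fun a φ h0 =>
      ⟨1, one_mem _, fun v => by rcases h0 with rfl | rfl <;> simp⟩
    rcases le_or_gt 2 (dim h C.ctr) with hd | hd
    · left
      refine Set.ext fun f => ⟨fun hf => ?_, fun hf => sl_mem ρ.range (fun a φ hφa => ?_) hf⟩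
      · show LinearMap.det (f : (space h (some C)) →ₗ[F] (space h (some C))) = 1
        have hf₁ := hgen f hf
        clear hf
        induction hf₁ using Subgroup.closure_induction with
        | mem f hf' =>
          obtain ⟨x, ξ, hx, hfv⟩ := hf'
          rw [show (f : (space h (some C)) →ₗ[F] (space h (some C))) = LinearMap.transvection (ξ.domRestrict (space h (some C))) x from LinearMap.ext fun v => hfv v,
            LinearMap.transvection.det]
          simp [hx.2.2.1]
        | one => exact LinearMap.det_id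
        | mul f f' _ _ h1 h2 =>
          rw [show ((f * f' : (space h (some C)) ≃ₗ[F] (space h (some C))) : (space h (some C)) →ₗ[F] (space h (some C))) = (f : (space h (some C)) →ₗ[F] (space h (some C))) ∘ₗ (f' : (space h (some C)) →ₗ[F] (space h (some C))) from rfl,
            LinearMap.det_comp, h1, h2, mul_one]
        | inv f _ h1 =>
          have : LinearMap.det (f : (space h (some C)) →ₗ[F] (space h (some C))) * LinearMap.det ((f⁻¹ : (space h (some C)) ≃ₗ[F] (space h (some C))) : (space h (some C)) →ₗ[F] (space h (some C))) = 1 := by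
            rw [← LinearMap.det_comp, show (f : (space h (some C)) →ₗ[F] (space h (some C))) ∘ₗ ((f⁻¹ : (space h (some C)) ≃ₗ[F] (space h (some C))) : (space h (some C)) →ₗ[F] (space h (some C))) = LinearMap.id from
              LinearMap.ext fun x => f.apply_symm_apply x, LinearMap.det_id]
          rwa [h1, one_mul] at this
      · by_cases h0 : a = 0 ∨ φ = 0
        · exact htriv a φ h0
        push Not at h0
        set φ' : Dual F (comp h C.ctr) := φ ∘ₗ (LinearEquiv.ofEq _ _ hA.symm).toLinearMap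
        obtain ⟨⟨ξ, hξ⟩, hξφ⟩ := (res_bijective h C.spec).2 φ'
        have hξv : ξ.domRestrict (space h (some C)) = φ := LinearMap.ext fun v => by
          have := LinearMap.congr_fun hξφ ⟨v, hA.le v.2⟩
          exact this
        have hξ0 : ξ ≠ 0 := fun e => h0.2 (by rw [← hξv, e]; rfl)
        obtain ⟨f, hf', hfv⟩ := hlift a ξ (full h C.spec hd (hA.le a.2) (fun e => h0.1 (Subtype.ext e)) hξ hξ0
          (by rw [← hξv] at hφa; exact hφa))
        exact ⟨f, hf', hξv ▸ hfv⟩
    · right
      obtain ⟨Ω₀, halt₀, hnd₀, hΩ₀⟩ := exists_form h C.spec (Nat.le_of_lt_succ hd)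
      set ι : (space h (some C)) →ₗ[F] comp h C.ctr := (LinearEquiv.ofEq _ _ hA).toLinearMap
      set Ω : LinearMap.BilinForm F (space h (some C)) := Ω₀.compl₁₂ ι ι
      have hax : ∀ (x : (space h (some C))), x ≠ 0 → ∀ ξ, tvRel H x ξ → ∃ c : F, c ≠ 0 ∧ ξ.domRestrict (space h (some C)) = c • Ω x := by
        intro x hx0 ξ hx
        obtain ⟨c, hc, he⟩ := hΩ₀ ⟨x, hA.le x.2⟩ (fun e => hx0 (Subtype.ext ((congrArg (fun z : ↥(comp h C.ctr) => (z : W)) e) : (x : W) = 0))) ξ hx
        exact ⟨c, hc, LinearMap.ext fun v => LinearMap.congr_fun he ⟨v, hA.le v.2⟩⟩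
      have halt : Ω.IsAlt := fun v => halt₀ _
      have hsurj : ∀ v, ∃ u : (space h (some C)), ι u = v := fun v => ⟨⟨v, hA.ge v.2⟩, rfl⟩
      have hnd : Ω.Nondegenerate := by
        constructor
        · intro x hx
          exact (LinearEquiv.ofEq _ _ hA).injective ((hnd₀.1 _ fun v => by
            obtain ⟨u, rfl⟩ := hsurj v; exact hx u).trans (map_zero _).symm)
        · intro x hx
          exact (LinearEquiv.ofEq _ _ hA).injective ((hnd₀.2 _ fun v => by
            obtain ⟨u, rfl⟩ := hsurj v; exact hx u).trans (map_zero _).symm)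
      refine ⟨Ω, halt, hnd, Set.ext fun f => ⟨fun hf => ?_, fun hf => sp_mem Ω halt hnd ρ.range (fun a c => ?_) hf⟩⟩
      · show ∀ x y, Ω (f x) (f y) = Ω x y
        have hf₁ := hgen f hf
        clear hf
        induction hf₁ using Subgroup.closure_induction with
        | mem f hf' =>
          obtain ⟨x, ξ, hx, hfv⟩ := hf'
          obtain ⟨c, -, hc⟩ := hax x (fun e => hx.1 (by simp [e])) ξ hx
          intro u v
          rw [hfv u, hfv v, hc]
          have self : Ω x x = 0 := halt x
          have skew : Ω u x = -Ω x u := (halt.neg_eq x u).symm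
          simp only [map_add, map_smul, LinearMap.add_apply, LinearMap.smul_apply, smul_eq_mul, self, skew]
          ring
        | one => exact fun _ _ => rfl
        | mul f f' _ _ h1 h2 => exact fun u v => (h1 _ _).trans (h2 u v)
        | inv f _ h1 =>
          intro u v
          have := h1 (f⁻¹ u) (f⁻¹ v)
          rw [show f (f⁻¹ u) = u from f.apply_symm_apply u, show f (f⁻¹ v) = v from f.apply_symm_apply v] at this
          exact this.symm
      · by_cases h0 : a = 0 ∨ c • Ω a = 0
        · exact htriv _ _ h0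
        push Not at h0
        have hc : c ≠ 0 := fun e => h0.2 (by simp [e])
        obtain ⟨ξ, hξ⟩ := (mem_comp h (hA.le a.2) (fun e => h0.1 (Subtype.ext e))).pt
        obtain ⟨c₀, hc₀, he⟩ := hax a h0.1 ξ hξ
        obtain ⟨f, hf', hfv⟩ := hlift a ((c / c₀) • ξ) (h.smulR hξ (div_ne_zero hc hc₀))
        refine ⟨f, hf', ?_⟩
        rwa [show ((c / c₀) • ξ).domRestrict (space h (some C)) = (c / c₀) • ξ.domRestrict (space h (some C)) from rfl, he, smul_smul,
          div_mul_cancel₀ c hc₀] at hfv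

theorem grp_inf_eq_bot (hHT : H = Subgroup.closure T) (hT : ∀ t ∈ T, ∃ b ψ, tvRel H b ψ ∧ IsTv t b ψ) {n : ℕ}
    (e : Fin n ≃ Option (Component h)) (j : Fin n) :
    grp h (e j) ⊓ (⨆ j' ∈ {j' : Fin n | j' ≠ j}, grp h (e j')) = ⊥ := by
  refine eq_bot_iff.2 fun g hg => Subgroup.mem_bot.2 (LinearEquiv.ext fun v => ?_)
  have hv : v ∈ ⨆ i, (Fin.cases (fixedPart h) (fun j => space h (e j)) : Fin (n + 1) → Submodule F W) i := by
    rw [((DirectSum.isInternal_submodule_iff_iSupIndep_and_iSup_eq_top _).1 (isInternal e)).2]; trivial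
  show g v = v
  induction hv using Submodule.iSup_induction' with
  | mem i v hv =>
    induction i using Fin.cases with
    | zero => exact (grp_fixing (e j)).1 hg.1 v hv
    | succ i =>
      rcases eq_or_ne i j with rfl | hne
      · exact (iSup₂_le fun j' hj' => grp_fixing_space (e j') (e i) (fun he => hj' (e.injective he)) :
          (⨆ j' ∈ {j' : Fin n | j' ≠ i}, grp h (e j')) ≤ fixing (space h (e i))) hg.2 v hv
      · exact grp_fixing_space (e j) (e i) (fun he => hne (e.injective he).symm) hg.1 v hv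
  | zero => exact map_zero g
  | add u v _ _ h1 h2 => rw [map_add, h1, h2]

theorem decomposition (h : Sys (LinearMap.id : Dual (ZMod p) W →ₗ[ZMod p] W →ₗ[ZMod p] ZMod p) (tvRel H))
    (hHT : H = Subgroup.closure T) (hT : ∀ t ∈ T, ∃ b ψ, tvRel H b ψ ∧ IsTv t b ψ) :
    ∃ (n : ℕ) (U : Fin (n + 1) → Submodule F W) (K : Fin n → Subgroup (W ≃ₗ[F] W)),
      1 ≤ n ∧ DirectSum.IsInternal U ∧
      (∀ g ∈ H, ∀ i, (U i).map (g : W →ₗ[F] W) = U i) ∧
      (∀ j, K j ≤ H ∧ ((K j).subgroupOf H).Normal) ∧ ⨆ j, K j = H ∧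
      (∀ j, K j ⊓ (⨆ j' ∈ {j' : Fin n | j' ≠ j}, K j') = ⊥) ∧
      (∀ j j', j ≠ j' → ∀ a ∈ K j, ∀ b ∈ K j', a * b = b * a) ∧
      (∀ j, ∀ g ∈ K j, ∀ i : Fin (n + 1), i ≠ j.succ → ∀ v ∈ U i, g v = v) ∧
      (∀ j, ∃ ρ : ↥(K j) →* (↥(U j.succ) ≃ₗ[F] ↥(U j.succ)),
        (∀ (g : ↥(K j)) (v : ↥(U j.succ)), ((ρ g v : ↥(U j.succ)) : W) = (g : W ≃ₗ[F] W) (v : W)) ∧
        ((ρ.range : Set (↥(U j.succ) ≃ₗ[F] ↥(U j.succ))) =
            {f : ↥(U j.succ) ≃ₗ[F] ↥(U j.succ) | LinearMap.det (f : ↥(U j.succ) →ₗ[F] ↥(U j.succ)) = 1} ∨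
          ∃ B : LinearMap.BilinForm F ↥(U j.succ), B.IsAlt ∧ B.Nondegenerate ∧
            (ρ.range : Set (↥(U j.succ) ≃ₗ[F] ↥(U j.succ))) = {f | ∀ x y, B (f x) (f y) = B x y})) := by
  haveI : Finite (Component h) := Subtype.finite
  obtain ⟨n, ⟨e'⟩⟩ := Finite.exists_equiv_fin (Option (Component h))
  set e := e'.symm
  refine ⟨n, Fin.cases (fixedPart h) (fun j => space h (e j)), fun j => grp h (e j), (e' none).pos, isInternal e,
    fun g hg i => ?_, fun j => ⟨grp_le _, grp_normal hHT hT _⟩, ?_, grp_inf_eq_bot hHT hT e,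
    fun j j' hne => grp_commute _ _ fun he => hne (e.injective he), fun j g hg i hi v hv => ?_,
    fun j => exists_range hHT hT (e j)⟩
  · induction i using Fin.cases with
    | zero => exact (le_stab hHT hT).1 hg
    | succ i => exact (le_stab hHT hT).2 (e i) hg
  · rw [e.surjective.iSup_comp (g := grp h)]
    exact iSup_grp hHT hT
  · induction i using Fin.cases with
    | zero => exact (grp_fixing (e j)).1 hg v hv
    | succ i => exact grp_fixing_space (e j) (e i) (fun he => hi (by rw [e.injective he])) hg v hv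

end Group

end Cfsg.Agent.TransvGroup
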