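import Cfsg.Agent.Lib.TransvGroup.Classify
import Cfsg.Prelude.Def_Solvable

/-!
The transvection system of a linear group over a prime field.
* `IsTv`, `tvRel` : the pairs (centre, axis) of the transvections in `H`
* `sys` : `tvRel H` is a `Sys` when `H` is generated by transvections and `O_p(H) = 1`
-/

set_option autoImplicit false
set_option linter.unusedSectionVars false

namespace Cfsg.Agent.TransvGroup

open Module

universe u v

variable {k : Type u} [Field k] {V : Type v} [AddCommGroup V] [Module k V]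

/-- `g` is `x ↦ x + φ x • a`. -/
def IsTv (g : V ≃ₗ[k] V) (a : V) (φ : Dual k V) : Prop := ∀ x, g x = x + φ x • a

theorem IsTv.inv {g : V ≃ₗ[k] V} {a : V} {φ : Dual k V} (hg : IsTv g a φ) (ha : φ a = 0) :
    IsTv g⁻¹ a (-φ) := fun x => g.injective <| by
  rw [← LinearEquiv.mul_apply, mul_inv_cancel, hg]; simp [ha]

theorem IsTv.pow {g : V ≃ₗ[k] V} {a : V} {φ : Dual k V} (hg : IsTv g a φ) (ha : φ a = 0) :
    ∀ n : ℕ, IsTv (g ^ n) a ((n : k) • φ)
  | 0 => fun x => by simp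
  | n + 1 => fun x => by
    rw [pow_succ', LinearEquiv.mul_apply, hg.pow ha n, hg]
    simp [ha, add_smul]; abel

theorem IsTv.conj {g t : V ≃ₗ[k] V} {a b : V} {φ ψ : Dual k V} (hg : IsTv g a φ) (ht : IsTv t b ψ) (hb : ψ b = 0) :
    IsTv (t * g * t⁻¹) (a + ψ a • b) (φ - φ b • ψ) := fun x => by
  rw [LinearEquiv.mul_apply, LinearEquiv.mul_apply, ht.inv hb, hg, ht]
  simp [hb, smul_add, add_smul, sub_smul, smul_smul]
  module

theorem IsTv.unique {g g' : V ≃ₗ[k] V} {a : V} {φ : Dual k V} (hg : IsTv g a φ) (hg' : IsTv g' a φ) : g = g' :=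
  LinearEquiv.ext fun x => (hg x).trans (hg' x).symm

/-- The transvection pairs of `H`. -/
def tvRel (H : Subgroup (V ≃ₗ[k] V)) (a : V) (φ : Dual k V) : Prop :=
  a ≠ 0 ∧ φ ≠ 0 ∧ φ a = 0 ∧ ∃ g ∈ H, IsTv g a φ

variable {p : ℕ} [Fact p.Prime] {W : Type v} [AddCommGroup W] [Module (ZMod p) W] [Finite W]
  {H : Subgroup (W ≃ₗ[ZMod p] W)}

local notation "F" => ZMod p

theorem tvRel_smulR {a : W} {φ : Dual F W} (h : tvRel H a φ) {c : F} (hc : c ≠ 0) : tvRel H a (c • φ) := by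
  obtain ⟨ha, hφ, hφa, g, hg, ht⟩ := h
  refine ⟨ha, smul_ne_zero hc hφ, by simp [hφa], g ^ c.val, pow_mem hg _, ?_⟩
  simpa [ZMod.natCast_zmod_val] using ht.pow hφa c.val

theorem tvRel_smulL {a : W} {φ : Dual F W} (h : tvRel H a φ) {c : F} (hc : c ≠ 0) : tvRel H (c • a) φ := by
  obtain ⟨ha, hφ, hφa, g, hg, ht⟩ := tvRel_smulR h hc
  have hφa' : φ a = 0 := h.2.2.1
  exact ⟨smul_ne_zero hc ha, h.2.1, by simp [hφa'], g, hg, fun x => by
    rw [ht x]; simp [smul_smul, mul_comm]⟩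

theorem tvRel_conj {a b : W} {φ ψ : Dual F W} (ha : tvRel H a φ) (hb : tvRel H b ψ) (s : F) :
    tvRel H (a + (s * ψ a) • b) (φ - (s * φ b) • ψ) := by
  rcases eq_or_ne s 0 with rfl | hs
  · simpa using ha
  obtain ⟨-, -, hψb, t, ht, htv⟩ := tvRel_smulR hb hs
  obtain ⟨ha0, hφ, hφa, g, hg, hgv⟩ := ha
  have hconj := hgv.conj htv hψb
  simp only [LinearMap.smul_apply, smul_eq_mul, smul_smul] at hconj
  rw [mul_comm (φ b) s] at hconj
  have hb0 : ψ b = 0 := hb.2.2.1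
  refine ⟨?_, ?_, ?_, _, mul_mem (mul_mem ht hg) (inv_mem ht), hconj⟩
  · intro e
    have h1 := congrArg ψ e
    simp [hb0] at h1
    rw [h1] at e
    simp at e
    exact ha0 e
  · intro e
    have h1 := LinearMap.congr_fun e b
    simp [hb0] at h1
    rw [h1] at e
    simp at e
    exact hφ e
  · simp [hφa, hb0]; ring

theorem tvRel_addR {a : W} {φ ψ : Dual F W} (hφ : tvRel H a φ) (hψ : tvRel H a ψ) (hne : φ + ψ ≠ 0) :
    tvRel H a (φ + ψ) := by
  obtain ⟨ha, -, h1, g, hg, hgv⟩ := hφ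
  obtain ⟨-, -, h2, t, ht, htv⟩ := hψ
  refine ⟨ha, hne, by simp [h1, h2], g * t, mul_mem hg ht, fun x => ?_⟩
  rw [LinearEquiv.mul_apply, htv, hgv]
  simp [h1, add_smul]; abel

theorem tvRel_addL {a b : W} {φ : Dual F W} (ha : tvRel H a φ) (hb : tvRel H b φ) (hne : a + b ≠ 0) :
    tvRel H (a + b) φ := by
  obtain ⟨-, hφ, h1, g, hg, hgv⟩ := ha
  obtain ⟨-, -, h2, t, ht, htv⟩ := hb
  refine ⟨hne, hφ, by simp [h1, h2], g * t, mul_mem hg ht, fun x => ?_⟩
  rw [LinearEquiv.mul_apply, htv, hgv]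
  simp [h2, smul_add]; abel

theorem tvRel_quad {a b : W} {φ ψ : Dual F W} (ha : tvRel H a φ) (hb : tvRel H b ψ) (h1 : φ b = 0) (h2 : ψ a = 0)
    (he : tvRel H (a + b) (φ + ψ)) (hne : a - b ≠ 0) (hne' : φ - ψ ≠ 0) : tvRel H (a - b) (φ - ψ) := by
  obtain ⟨-, -, ha', g, hg, hgv⟩ := ha
  obtain ⟨-, -, hb', t, ht, htv⟩ := hb
  obtain ⟨-, -, he', e, hem, hev⟩ := he
  refine ⟨hne, hne', by simp [h1, h2, ha', hb'], g ^ 2 * t ^ 2 * e⁻¹,
    mul_mem (mul_mem (pow_mem hg 2) (pow_mem ht 2)) (inv_mem hem), fun x => ?_⟩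
  rw [LinearEquiv.mul_apply, LinearEquiv.mul_apply, hgv.pow ha' 2, htv.pow hb' 2, hev.inv he']
  simp [h1, h2, ha', hb', smul_add, smul_sub, add_smul, sub_smul, mul_add, mul_comm, smul_smul]
  module

theorem pow_eq_one_of_isTv {g : W ≃ₗ[F] W} {a : W} {φ : Dual F W} (hg : IsTv g a φ) (ha : φ a = 0) :
    g ^ p = 1 := LinearEquiv.ext fun x => by simp [hg.pow ha p x]

variable {T : Set (W ≃ₗ[ZMod p] W)}

theorem noAbelian (hHT : H = Subgroup.closure T) (hT : ∀ t ∈ T, ∃ b ψ, tvRel H b ψ ∧ IsTv t b ψ)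
    (hOp : Cfsg.pCore p ↥H = ⊥) (S : W → Dual F W → Prop) (hS : ∀ a φ, S a φ → tvRel H a φ)
    (hcl : ∀ a φ, S a φ → ∀ b ψ, tvRel H b ψ → ∀ s : F, S (a + (s * ψ a) • b) (φ - (s * φ b) • ψ))
    (hz : ∀ a φ b ψ, S a φ → S b ψ → φ b = 0) (a : W) (φ : Dual F W) : ¬ S a φ := by
  intro haS
  set Y : Set (W ≃ₗ[F] W) := {g | ∃ a φ, S a φ ∧ IsTv g a φ}
  set U := Subgroup.closure Y
  have hYH : Y ⊆ H := by
    rintro g ⟨a, φ, hs, hg⟩
    obtain ⟨-, -, -, g', hg', hgv⟩ := hS a φ hs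
    rw [hg.unique hgv]; exact hg'
  have hUH : U ≤ H := (Subgroup.closure_le _).2 hYH
  have hcomm : ∀ x ∈ U, ∀ y ∈ U, Commute x y := by
    intro x hx y hy
    induction hx, hy using Subgroup.closure_induction₂ with
    | mem x y hx hy =>
      obtain ⟨a, φ, hs, hg⟩ := hx
      obtain ⟨b, ψ, hs', hg'⟩ := hy
      refine LinearEquiv.ext fun v => ?_
      rw [LinearEquiv.mul_apply, LinearEquiv.mul_apply, hg', hg, hg, hg']
      simp [hz a φ b ψ hs hs', hz b ψ a φ hs' hs]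
      abel
    | one_left => exact Commute.one_left _
    | one_right => exact Commute.one_right _
    | mul_left _ _ _ _ _ _ h1 h2 => exact h1.mul_left h2
    | mul_right _ _ _ _ _ _ h1 h2 => exact h1.mul_right h2
    | inv_left _ _ _ _ h1 => exact h1.inv_left
    | inv_right _ _ _ _ h1 => exact h1.inv_right
  have hp : IsPGroup p U := by
    intro x
    refine ⟨1, Subtype.ext ?_⟩
    rw [SubgroupClass.coe_pow, pow_one, OneMemClass.coe_one]
    obtain ⟨x, hx⟩ := x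
    show x ^ p = 1
    induction hx using Subgroup.closure_induction with
    | mem x hx => obtain ⟨a, φ, hs, hg⟩ := hx; exact pow_eq_one_of_isTv hg (hS a φ hs).2.2.1
    | one => exact one_pow p
    | mul x y hx hy h1 h2 => rw [(hcomm x hx y hy).mul_pow, h1, h2, one_mul]
    | inv x hx h1 => rw [inv_pow, h1, inv_one]
  have hnor : H ≤ Subgroup.normalizer (U : Set (W ≃ₗ[F] W)) := by
    have step : ∀ t b ψ, tvRel H b ψ → IsTv t b ψ → ∀ u ∈ U, t * u * t⁻¹ ∈ U := by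
      intro t b ψ hb ht u hu
      refine (Subgroup.closure_le (U.comap (MulAut.conj t).toMonoidHom)).2 ?_ hu
      rintro g ⟨a, φ, hs, hg⟩
      refine Subgroup.subset_closure ⟨_, _, hcl a φ hs b ψ hb 1, ?_⟩
      simpa using hg.conj ht hb.2.2.1
    intro x hx
    rw [hHT] at hx
    refine (Subgroup.closure_le _).2 (fun t ht => ?_) hx
    obtain ⟨b, ψ, hb, htv⟩ := hT t ht
    have hb' : tvRel H b (-ψ) := by
      rw [← neg_one_smul F ψ]; exact tvRel_smulR hb (neg_ne_zero.2 one_ne_zero)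
    refine Subgroup.mem_normalizer_iff.2 fun u => ⟨fun hu => step t b ψ hb htv u hu, fun hu => ?_⟩
    have := step t⁻¹ b (-ψ) hb' (htv.inv hb.2.2.1) _ hu
    simpa [mul_assoc] using this
  haveI hn : (U.subgroupOf H).Normal := Subgroup.normal_subgroupOf_iff hUH |>.2 fun u x hu hx =>
    (Subgroup.mem_normalizer_iff.1 (hnor hx) u).1 hu
  have hle : U.subgroupOf H ≤ Cfsg.pCore p ↥H :=
    le_sSup ⟨hn, hp.of_equiv (Subgroup.subgroupOfEquivOfLe hUH).symm⟩
  rw [hOp, le_bot_iff, Subgroup.subgroupOf_eq_bot, disjoint_iff, inf_eq_left.2 hUH] at hle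
  obtain ⟨ha0, hφ0, -, g, -, hg⟩ := hS a φ haS
  have hg1 : g = 1 := (Subgroup.mem_bot).1 (hle ▸ Subgroup.subset_closure (show g ∈ Y from ⟨a, φ, haS, hg⟩))
  refine hφ0 (LinearMap.ext fun x => ?_)
  have := hg x
  rw [hg1] at this
  simpa [ha0] using this

theorem exists_opposite (hHT : H = Subgroup.closure T) (hT : ∀ t ∈ T, ∃ b ψ, tvRel H b ψ ∧ IsTv t b ψ)
    (hOp : Cfsg.pCore p ↥H = ⊥) {a : W} {φ : Dual F W} (ha : tvRel H a φ) :
    ∃ b ψ, tvRel H b ψ ∧ φ b ≠ 0 ∧ ψ a ≠ 0 := by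
  classical
  -- the pairs without an opposite
  set L : W → Dual F W → Prop := fun a φ => tvRel H a φ ∧ ∀ b ψ, tvRel H b ψ → φ b = 0 ∨ ψ a = 0
  suffices ∀ a φ, ¬ L a φ by
    by_contra! hcon
    exact this a φ ⟨ha, fun b ψ hb => or_iff_not_imp_left.2 (hcon b ψ hb)⟩
  have hLconj : ∀ a φ, L a φ → ∀ b ψ, tvRel H b ψ → ∀ s : F, L (a + (s * ψ a) • b) (φ - (s * φ b) • ψ) := by
    rintro a φ ⟨ha, hL⟩ b ψ hb s
    refine ⟨tvRel_conj ha hb s, fun z ζ hz => ?_⟩
    have := hL _ _ (tvRel_conj hz hb (-s))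
    have hbb : ψ b = 0 := hb.2.2.1
    simp at this ⊢
    rcases this with h1 | h1
    · left; linear_combination h1
    · right; linear_combination h1
  have hLz : ∀ a φ b ψ, L a φ → tvRel H b ψ → φ b ≠ 0 → L a ψ := by
    rintro a φ b ψ ⟨ha, hL⟩ hb hne
    have hψa : ψ a = 0 := (hL b ψ hb).resolve_left hne
    have hconj := tvRel_conj hb ha (φ b)⁻¹
    rw [hψa, mul_zero, zero_smul, sub_zero, inv_mul_cancel₀ hne, one_smul] at hconj
    have haψ : tvRel H a ψ := by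
      have := tvRel_addL hconj (tvRel_smulL hb (c := -1) (by simp)) (by simpa using ha.1)
      simpa using this
    refine ⟨haψ, fun z ζ hz => or_iff_not_imp_right.2 fun hza => ?_⟩
    -- the conjugate `(b + φ b • a, ψ)` and `(a, ψ)` are not separated by an opposite
    by_contra hψz
    have hφz : φ z = 0 := (hL z ζ hz).resolve_right hza
    have := (hLconj a φ ⟨ha, hL⟩ b ψ hb 1).2 z ζ hz
    simp [hψa, hφz, hne] at this
    exact this.elim hψz hza
  intro a₁ φ₁ h₁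
  -- a pair without opposite whose space of such axes is smallest
  have hfin : ∀ a, ∃ S : Submodule F (Dual F W), (S : Set (Dual F W)) = {ξ | ξ = 0 ∨ L a ξ} := fun a =>
    ⟨{ carrier := {ξ | ξ = 0 ∨ L a ξ}
       zero_mem' := Or.inl rfl
       add_mem' := by
        rintro ξ η (rfl | ⟨hξ, hξL⟩) hη
        · simpa using hη
        rcases hη with rfl | ⟨hη, hηL⟩
        · exact Or.inr ⟨by simpa using hξ, by simpa using hξL⟩
        refine (em (ξ + η = 0)).imp id fun hne => ⟨tvRel_addR hξ hη hne, fun z ζ hz => ?_⟩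
        rcases hξL z ζ hz with h1 | h1
        · rcases hηL z ζ hz with h2 | h2
          · exact Or.inl (by simp [h1, h2])
          · exact Or.inr h2
        · exact Or.inr h1
       smul_mem' := by
        rintro c ξ (rfl | ⟨hξ, hξL⟩)
        · exact Or.inl (smul_zero c)
        refine (em (c = 0)).imp (fun e => by simp [e]) fun hc =>
          ⟨tvRel_smulR hξ hc, fun z ζ hz => (hξL z ζ hz).imp_left fun e => by simp [e]⟩ }, rfl⟩
  choose S hS using hfin
  have hmem : ∀ a ξ, ξ ∈ S a ↔ ξ = 0 ∨ L a ξ := fun a ξ => Set.ext_iff.1 (hS a) ξ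
  have hex : ∃ n a, (∃ φ, L a φ) ∧ finrank F (S a) = n := ⟨_, a₁, ⟨φ₁, h₁⟩, rfl⟩
  obtain ⟨a, ⟨φ, hLa⟩, hn⟩ := Nat.find_spec hex
  refine noAbelian hHT hT hOp (fun x ξ => L x ξ ∧ ∀ y η, L y η → ξ y = 0) (fun x ξ hx => hx.1.1) ?_ ?_ a φ ⟨hLa, ?_⟩
  · rintro x ξ ⟨hx, hxz⟩ b ψ hb s
    refine ⟨hLconj x ξ hx b ψ hb s, fun y η hy => ?_⟩
    have := hxz _ _ (hLconj y η hy b ψ hb (-s))
    simp at this ⊢
    linear_combination this
  · exact fun x ξ y η hx hy => hx.2 y η hy.1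
  intro y η hy
  by_contra hne
  have hηa : η a = 0 := (hLa.2 y η hy.1).resolve_left hne
  have hle : S y ≤ S a := fun ξ hξ => by
    rcases (hmem y ξ).1 hξ with e | hξ
    · exact (hmem a ξ).2 (Or.inl e)
    · exact (hmem a ξ).2 (Or.inr (hLz a φ y ξ hLa hξ.1 hne))
  have hlt : S y < S a := by
    refine lt_of_le_of_ne hle fun e => ?_
    rcases (hmem y φ).1 (e ▸ (hmem a φ).2 (Or.inr hLa)) with e0 | e0
    · exact hLa.1.2.1 e0
    · exact hne e0.1.2.2.1
  exact Nat.find_min hex (hn ▸ Submodule.finrank_lt_finrank_of_lt hlt) ⟨y, ⟨η, hy⟩, rfl⟩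

theorem sys (hp : Odd p) (hHT : H = Subgroup.closure T) (hT : ∀ t ∈ T, ∃ b ψ, tvRel H b ψ ∧ IsTv t b ψ)
    (hOp : Cfsg.pCore p ↥H = ⊥) : Sys (LinearMap.id : Dual F W →ₗ[F] W →ₗ[F] F) (tvRel H) where
  two := by
    haveI : Fact (2 < p) := ⟨(Fact.out : p.Prime).two_le.lt_of_ne fun e => by rw [← e] at hp; exact absurd hp (by decide)⟩
    exact Ring.two_ne_zero (by rw [ZMod.ringChar_zmod_n]; exact (Fact.out : 2 < p).ne')
  ne h := ⟨h.1, h.2.1, h.2.2.1⟩
  smulL h _ hc := tvRel_smulL h hc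
  smulR h _ hc := tvRel_smulR h hc
  addR := tvRel_addR
  addL := tvRel_addL
  conj := tvRel_conj
  quad := tvRel_quad
  noAbelian := noAbelian hHT hT hOp
  opp h := exists_opposite hHT hT hOp h

end Cfsg.Agent.TransvGroup
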